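import Cfsg.Agent.Lib.ConjType.Isolated
import Cfsg.Agent.Lib.FGS.CoprimeLargestMain
import Cfsg.Agent.Lib.Solvable.FrobeniusTheorem

/-!
Basic facts on centralisers and class sizes of elements of prime order.
-/

set_option autoImplicit false

namespace CfsgLib.ConjType

open Subgroup CfsgLib.FGS.TwoLargest

variable {G : Type*} [Group G] [Finite G]

theorem self_mem (v : G) : v ∈ centralizer ({v} : Set G) := commute_iff.2 (Commute.refl v)

theorem exists_prime_mem_zpowers {v : G} (hv : v ≠ 1) :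
    ∃ p : ℕ, ∃ a ∈ zpowers v, p.Prime ∧ p ∣ orderOf v ∧ orderOf a = p := by
  obtain ⟨p, hp, hd⟩ := Nat.exists_prime_and_dvd (mt orderOf_eq_one_iff.1 hv)
  refine ⟨p, v ^ (orderOf v / p), npow_mem_zpowers v _, hp, hd, ?_⟩
  rw [orderOf_pow' v (Nat.div_pos (Nat.le_of_dvd (orderOf_pos v) hd) hp.pos).ne',
    Nat.gcd_eq_right (Nat.div_dvd_of_dvd hd), Nat.div_div_self hd (orderOf_pos v).ne']

theorem ne_one_of_prime {p : ℕ} (hp : p.Prime) {a : G} (ha : orderOf a = p) : a ≠ 1 := by
  rintro rfl; exact hp.ne_one (ha.symm.trans orderOf_one)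

theorem exists_order_mem {p : ℕ} (hp : p.Prime) {H : Subgroup G} (hd : p ∣ Nat.card H) :
    ∃ y ∈ H, orderOf y = p := by
  haveI : Fact p.Prime := ⟨hp⟩
  obtain ⟨y, hy⟩ := exists_prime_orderOf_dvd_card' (G := H) p hd
  exact ⟨y, y.2, by rw [Subgroup.orderOf_coe, hy]⟩

/-- The centre of a Sylow subgroup supplies elements of order `p` with class size prime to `p`. -/
theorem exists_central_of_sylow {p : ℕ} [Fact p.Prime] (hp : p ∣ Nat.card G) (P : Sylow p G) :
    ∃ w : G, orderOf w = p ∧ ¬ p ∣ cls w ∧ (P : Subgroup G) ≤ centralizer ({w} : Set G) := by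
  haveI : Nontrivial (P : Subgroup G) := (nontrivial_iff_ne_bot _).2 (P.ne_bot_of_dvd_card hp)
  haveI := P.2.center_nontrivial
  have hd : p ∣ Nat.card (center (P : Subgroup G)) := by
    obtain ⟨k, hk⟩ := (P.2.to_subgroup (center (P : Subgroup G))).exists_card_eq
    rcases Nat.eq_zero_or_pos k with rfl | hk0
    · have := Finite.one_lt_card (α := center (P : Subgroup G))
      rw [pow_zero] at hk; omega
    · exact hk ▸ dvd_pow_self p hk0.ne'
  obtain ⟨w, hw, hwo⟩ := exists_order_mem (Fact.out : p.Prime) hd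
  have hle : (P : Subgroup G) ≤ centralizer ({(w : G)} : Set G) := fun a ha =>
    mem_centralizer_singleton_iff.2 (congrArg Subtype.val (mem_center_iff.1 hw ⟨a, ha⟩))
  exact ⟨w, by rw [Subgroup.orderOf_coe, hwo],
    fun hd' => P.not_dvd_index (hd'.trans (index_dvd_of_le hle)), hle⟩

theorem exists_central_commute {p : ℕ} [Fact p.Prime] (hp : p ∣ Nat.card G) {y : G}
    (hy : ∃ k, orderOf y = p ^ k) : ∃ w : G, orderOf w = p ∧ ¬ p ∣ cls w ∧ Commute w y := by
  obtain ⟨k, hk⟩ := hy
  obtain ⟨P, hP⟩ := (IsPGroup.of_card (n := k) (by rw [Nat.card_zpowers, hk]) :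
    IsPGroup p (zpowers y)).exists_le_sylow
  obtain ⟨w, h1, h2, h3⟩ := exists_central_of_sylow hp P
  exact ⟨w, h1, h2, (commute_iff.1 (h3 (hP (mem_zpowers y)))).symm⟩

theorem coprime_of_ne {p q : ℕ} (hp : p.Prime) (hq : q.Prime) (hpq : p ≠ q) {a b : G}
    (ha : orderOf a = p) (hb : orderOf b = q) : (orderOf a).Coprime (orderOf b) := by
  rw [ha, hb]; exact (Nat.coprime_primes hp hq).2 hpq

/-- A product of two commuting elements of coprime orders is centralised by less. -/
theorem centralizer_mul_le_both {u v : G} (huv : Commute u v) (hc : (orderOf u).Coprime (orderOf v)) :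
    centralizer ({u * v} : Set G) ≤ centralizer ({u} : Set G) ∧
      centralizer ({u * v} : Set G) ≤ centralizer ({v} : Set G) := by
  refine ⟨centralizer_mul_le huv hc, ?_⟩
  rw [huv.eq]
  exact centralizer_mul_le huv.symm hc.symm

theorem mul_ne_one_of_prime {p : ℕ} (hp : p.Prime) {u v : G} (huv : Commute u v) (hu : orderOf u = p)
    (hc : (orderOf u).Coprime (orderOf v)) : u * v ≠ 1 := fun h => by
  have := huv.orderOf_mul_eq_mul_orderOf_of_coprime hc
  rw [h, orderOf_one, hu] at this
  exact hp.ne_one (Nat.eq_one_of_mul_eq_one_right this.symm)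

variable [IsSimpleGroup G] (hna : ¬ ∀ a b : G, a * b = b * a)
include hna

theorem center_eq_bot' : center G = ⊥ :=
  (Subgroup.Normal.eq_bot_or_eq_top (inferInstance : (center G).Normal)).resolve_right fun h =>
    hna fun a b => mem_center_iff.1 (h ▸ mem_top b : b ∈ center G) a

end CfsgLib.ConjType
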