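import Cfsg.Agent.Lib.ConjType.Primary
import Cfsg.Agent.Lib.ConjType.Basic

/-!
Centralisers of elements of a small class size in a group with few class sizes: at most one prime can
divide the larger size outside the smaller one.
-/

set_option autoImplicit false
set_option linter.style.haveILetI false
set_option linter.unusedSectionVars false

namespace CfsgLib.ConjType

open Subgroup CfsgLib.FGS.TwoLargest

variable {G : Type*} [Group G] [Finite G]

/-- Class sizes `va ∣ vb` with nothing else above `va`, and nothing below it but one. -/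
structure Role (G : Type*) [Group G] (va vb : ℕ) : Prop where
  dvd : va ∣ vb
  lt : va < vb
  up : ∀ v : G, v ≠ 1 → cls v ∣ va → cls v = va
  down : ∀ v : G, v ≠ 1 → va ∣ cls v → cls v = va ∨ cls v = vb
  downb : ∀ v : G, v ≠ 1 → vb ∣ cls v → cls v = vb
  exb : ∃ g : G, g ≠ 1 ∧ cls g = vb

theorem mem_of_le_centralizer {p : ℕ} [Fact p.Prime] (S : Sylow p G) {z : G}
    (hz : ∃ k, orderOf z = p ^ k) (hle : (S : Subgroup G) ≤ centralizer ({z} : Set G)) :
    z ∈ (S : Subgroup G) := by
  obtain ⟨k, hk⟩ := hz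
  have hW : IsPGroup p ((S : Subgroup G) ⊔ zpowers z : Subgroup G) := S.2.to_sup_of_normal_left'
    (IsPGroup.of_card (n := k) (by rw [Nat.card_zpowers, hk])) (fun w hw => by
      refine (centralizer_le_normalizer ((S : Subgroup G) : Set G)) (mem_centralizer_iff.2 fun c hc => ?_)
      obtain ⟨i, rfl⟩ := hw
      exact ((commute_iff.1 (hle hc)).zpow_right i).eq)
  exact (S.3 hW le_sup_left) ▸ (le_sup_right : zpowers z ≤ (S : Subgroup G) ⊔ zpowers z) (mem_zpowers z)

theorem centralizer_inf_eq {u v : G} (huv : Commute u v) (hco : (orderOf u).Coprime (orderOf v)) :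
    centralizer ({u * v} : Set G) = centralizer ({u} : Set G) ⊓ centralizer ({v} : Set G) :=
  le_antisymm (le_inf (centralizer_mul_le_both huv hco).1 (centralizer_mul_le_both huv hco).2)
    fun _ hg => commute_iff.2 ((commute_iff.1 hg.1).mul_right (commute_iff.1 hg.2))

theorem mul_ne_one_of_coprime {u v : G} (huv : Commute u v) (hco : (orderOf u).Coprime (orderOf v))
    (hu : u ≠ 1) : u * v ≠ 1 := fun h => by
  have := huv.orderOf_mul_eq_mul_orderOf_of_coprime hco
  rw [h, orderOf_one] at this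
  exact hu (orderOf_eq_one_iff.1 (Nat.eq_one_of_mul_eq_one_right this.symm))

theorem map_centralizer_subtype (H : Subgroup G) (y : H) :
    (centralizer ({y} : Set H)).map H.subtype = H ⊓ centralizer ({(y : G)} : Set G) := by
  ext g
  constructor
  · rintro ⟨h, hh, rfl⟩
    exact ⟨h.2, commute_iff.2 (congrArg Subtype.val (commute_iff.1 hh).eq)⟩
  · rintro ⟨h1, h2⟩
    exact ⟨⟨g, h1⟩, commute_iff.2 (Subtype.ext (commute_iff.1 h2).eq), rfl⟩

theorem cls_subgroup_mul (H : Subgroup G) (y : H) :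
    cls y * H.index = (H ⊓ centralizer ({(y : G)} : Set G)).index := by
  rw [← map_centralizer_subtype, index_map_subtype]; rfl

variable (hZ : center G = ⊥) {va vb : ℕ} (R : Role G va vb) {x : G} (hxa : cls x = va)
include hZ R hxa

theorem cls_ne_one' {v : G} (hv : v ≠ 1) : cls v ≠ 1 := fun h => by
  have := cls_eq_one.1 h
  rw [hZ, mem_bot] at this
  exact hv this

theorem va_pos : 0 < va := hxa ▸ Nat.pos_of_ne_zero (cls_ne_zero x)

theorem eq_of_centralises {v : G} (hv : v ≠ 1)
    (hle : centralizer ({x} : Set G) ≤ centralizer ({v} : Set G)) :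
    centralizer ({v} : Set G) = centralizer ({x} : Set G) :=
  (centralizer_eq_of_cls hle (hxa.trans (R.up v hv (hxa ▸ cls_dvd hle)).symm)).symm

/-- Every prime of `vb` outside `va` supplies an element with the centraliser of `x`. -/
theorem exists_central {r s : ℕ} (hr : r.Prime) (hxo : orderOf x = r) [hs : Fact s.Prime] (hsr : s ≠ r)
    (hsb : s ∣ vb) (hsa : ¬ s ∣ va) :
    ∃ z : G, orderOf z = s ∧ centralizer ({z} : Set G) = centralizer ({x} : Set G) := by
  obtain ⟨g, -, hgb⟩ := R.exb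
  have hsG : s ∣ Nat.card G := hsb.trans (hgb ▸ (centralizer ({g} : Set G)).index_dvd_card)
  obtain ⟨S, hS⟩ := exists_sylow_le (w := x) (p := s) (hxa ▸ hsa)
  obtain ⟨z, hzo, hz, hSz⟩ := exists_central_of_sylow hsG S
  have hzS := mem_of_le_centralizer S ⟨1, by rw [hzo, pow_one]⟩ hSz
  have hcm : Commute x z := (commute_iff.1 (hS hzS)).symm
  have hco : (orderOf x).Coprime (orderOf z) := coprime_of_ne hr hs.out (Ne.symm hsr) hxo hzo
  have hne := mul_ne_one_of_prime hr hcm hxo hco
  have hboth := centralizer_mul_le_both hcm hco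
  refine ⟨z, hzo, eq_of_centralises hZ R hxa (ne_one_of_prime hs.out hzo) ?_⟩
  rcases R.down _ hne (hxa ▸ cls_dvd hboth.1) with e | e
  · rw [← centralizer_eq_of_cls hboth.1 (e.trans hxa.symm)]
    exact hboth.2
  · have hle : (S : Subgroup G) ≤ centralizer ({x * z} : Set G) := fun c hc =>
      commute_iff.2 ((commute_iff.1 (hS hc)).mul_right (commute_iff.1 (hSz hc)))
    exact absurd ((hsb.trans e.symm.dvd).trans (index_dvd_of_le hle)) S.not_dvd_index

theorem inf_eq_of_central {t p k : ℕ} (ht : t.Prime) (hp : p.Prime) (htp : t ≠ p) {z y : G}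
    (hz : orderOf z = t) (hzC : centralizer ({z} : Set G) = centralizer ({x} : Set G))
    (hy : orderOf y = p ^ k) (hyx : y ∈ centralizer ({x} : Set G)) :
    centralizer ({z * y} : Set G) = centralizer ({x} : Set G) ⊓ centralizer ({y} : Set G) ∧ z * y ≠ 1 ∧
      (cls (z * y) = va ∨ cls (z * y) = vb) := by
  have hcm : Commute z y := (commute_iff.1 (hzC ▸ hyx)).symm
  have hco : (orderOf z).Coprime (orderOf y) := by
    rw [hz, hy]; exact ((Nat.coprime_primes ht hp).2 htp).pow_right k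
  have h1 := centralizer_inf_eq hcm hco
  rw [hzC] at h1
  have hne := mul_ne_one_of_prime ht hcm hz hco
  refine ⟨h1, hne, R.down _ hne ?_⟩
  rw [← hxa]
  exact cls_dvd (h1 ▸ inf_le_left)

/-- A noncentral element of prime power order of `C(x)`, together with an element of another prime
sharing the centraliser of `x`, has class size `vb / va` in `C(x)`. -/
theorem cls_in {t p k : ℕ} (ht : t.Prime) (hp : p.Prime) (htp : t ≠ p) {z : G}
    (hz : orderOf z = t) (hzC : centralizer ({z} : Set G) = centralizer ({x} : Set G))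
    (y : centralizer ({x} : Set G)) (hy : orderOf y = p ^ k)
    (hyc : y ∉ center (centralizer ({x} : Set G))) :
    cls y = vb / va ∧ cls (z * y) = vb := by
  rw [← Subgroup.orderOf_coe] at hy
  obtain ⟨h1, hne, h2⟩ := inf_eq_of_central hZ R hxa ht hp htp hz hzC hy y.2
  have hb : cls (z * y) = vb := by
    refine h2.resolve_left fun e => hyc (mem_center_iff.2 fun w => ?_)
    have h3 := centralizer_eq_of_cls (h1 ▸ inf_le_left) (e.trans hxa.symm)
    rw [h1] at h3
    exact Subtype.ext (commute_iff.1 ((h3.symm ▸ w.2 : (w : G) ∈ centralizer ({x} : Set G) ⊓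
      centralizer ({(y : G)} : Set G)).2)).eq
  refine ⟨?_, hb⟩
  have h4 := cls_subgroup_mul (centralizer ({x} : Set G)) y
  rw [← h1, show (centralizer ({z * (y : G)} : Set G)).index = vb from hb,
    show (centralizer ({x} : Set G)).index = va from hxa] at h4
  rw [← h4, Nat.mul_div_cancel _ (va_pos hZ R hxa)]

/-- The centraliser of `x` is not abelian. -/
theorem exists_noncentral (hx : x ≠ 1) :
    ∃ y : centralizer ({x} : Set G), y ∉ center (centralizer ({x} : Set G)) := by
  by_contra hcon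
  push Not at hcon
  have hall : ∀ y ∈ centralizer ({x} : Set G), y ≠ 1 →
      centralizer ({y} : Set G) = centralizer ({x} : Set G) := fun y hy hy1 =>
    eq_of_centralises hZ R hxa hy1 fun w hw => commute_iff.2
      (congrArg Subtype.val (mem_center_iff.1 (hcon ⟨y, hy⟩) ⟨w, hw⟩))
  obtain ⟨g, hg, hgb⟩ := R.exb
  obtain ⟨t, u, hut, ht, -, hu⟩ := exists_prime_mem_zpowers hg
  haveI : Fact t.Prime := ⟨ht⟩
  have hcH : Nat.card (centralizer ({g} : Set G)) ∣ Nat.card (centralizer ({x} : Set G)) := by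
    obtain ⟨e, he⟩ := R.dvd
    have h1 := (centralizer ({g} : Set G)).card_mul_index
    have h2 := (centralizer ({x} : Set G)).card_mul_index
    rw [← h2, show (centralizer ({g} : Set G)).index = vb from hgb,
      show (centralizer ({x} : Set G)).index = va from hxa, he, mul_comm va e, ← mul_assoc] at h1
    exact ⟨e, (Nat.eq_of_mul_eq_mul_right (va_pos hZ R hxa) h1).symm⟩
  have hta : ¬ t ∣ va := by
    have hd : t ∣ Nat.card (centralizer ({x} : Set G)) :=
      (hu ▸ Subgroup.orderOf_dvd_natCard _ (zpowers_le.2 (self_mem g) hut)).trans hcH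
    obtain ⟨y, hy, hyo⟩ := exists_order_mem ht hd
    obtain ⟨w, hwo, hw, hwy⟩ := exists_central_commute
      (hd.trans (card_subgroup_dvd_card _)) ⟨1, by rw [hyo, pow_one]⟩
    have hwH : w ∈ centralizer ({x} : Set G) :=
      hall y hy (ne_one_of_prime ht hyo) ▸ commute_iff.2 hwy
    rwa [cls, hall w hwH (ne_one_of_prime ht hwo), show (centralizer ({x} : Set G)).index = va from hxa]
      at hw
  obtain ⟨k, hk⟩ := exists_conj_mem (w := x) (v := u) (hxa ▸ hta) ⟨1, by rw [hu, pow_one]⟩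
  have hku : k * u * k⁻¹ ≠ 1 := by simpa using ne_one_of_prime ht hu
  have hgH : k * g * k⁻¹ ∈ centralizer ({x} : Set G) := by
    rw [← hall _ hk hku]
    obtain ⟨i, rfl⟩ := hut
    rw [← conj_zpow]
    exact commute_iff.2 ((Commute.refl (k * g * k⁻¹)).zpow_right i)
  have e : cls (k * g * k⁻¹) = va := by
    rw [cls, hall _ hgH (by simpa using hg)]; exact hxa
  rw [← cls_eq_of_isConj (isConj_iff.2 ⟨k, rfl⟩), hgb] at e
  exact absurd e R.lt.ne'

/-- Two primes with the centraliser of `x` and a further prime in `C(x)`: all noncentral classes of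
`C(x)` have the same size. -/
theorem equal_of_two {r s q : ℕ} (hr : r.Prime) (hs : s.Prime) (hrs : r ≠ s) (hq : q.Prime)
    (hqr : q ≠ r) (hqs : q ≠ s) (hqH : q ∣ Nat.card (centralizer ({x} : Set G))) {z₁ z₂ : G}
    (hz₁ : orderOf z₁ = r) (hC₁ : centralizer ({z₁} : Set G) = centralizer ({x} : Set G))
    (hz₂ : orderOf z₂ = s) (hC₂ : centralizer ({z₂} : Set G) = centralizer ({x} : Set G)) :
    CfsgLib.FGS.EqualClasses.Equal (centralizer ({x} : Set G)) (vb / va) := by
  set H := centralizer ({x} : Set G) with hH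
  have hstep : ∀ (t p p' k l : ℕ) (z : G) (y y' : H), t.Prime → p.Prime → p'.Prime → p ≠ p' → t ≠ p →
      t ≠ p' → orderOf z = t → centralizer ({z} : Set G) = H → orderOf y = p ^ k →
      orderOf y' = p' ^ l → y ∉ center H → Commute y y' →
      H ⊓ centralizer ({(y : G)} : Set G) ≤ centralizer ({(y' : G)} : Set G) := by
    intro t p p' k l z y y' ht hp hp' hpp htp htp' hz hzC hy hy' hyc hcm
    obtain ⟨-, hb⟩ := cls_in hZ R hxa ht hp htp hz hzC y hy hyc
    rw [← Subgroup.orderOf_coe] at hy hy'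
    obtain ⟨h1, hne, -⟩ := inf_eq_of_central hZ R hxa ht hp htp hz hzC hy y.2
    rw [← h1]
    have hzy' : Commute z (y' : G) := (commute_iff.1 (hzC.symm ▸ y'.2)).symm
    have hcm' : Commute (z * (y : G)) (y' : G) :=
      hzy'.mul_left (congrArg Subtype.val hcm.eq)
    have hco : (orderOf (z * (y : G))).Coprime (orderOf (y' : G)) := by
      refine Nat.Coprime.coprime_dvd_left (Commute.orderOf_mul_dvd_mul_orderOf
        (commute_iff.1 (hzC.symm ▸ y.2)).symm) ?_
      rw [hz, hy, hy']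
      exact Nat.Coprime.mul_left (((Nat.coprime_primes ht hp').2 htp').pow_right l)
        (((Nat.coprime_primes hp hp').2 hpp).pow k l)
    have hboth := centralizer_mul_le_both hcm' hco
    have hne' := mul_ne_one_of_coprime hcm' hco hne
    rw [← centralizer_eq_of_cls hboth.1
      ((R.downb _ hne' (hb ▸ cls_dvd hboth.1)).trans hb.symm)]
    exact hboth.2
  have hclass : ∀ (p k : ℕ) (y : H), p.Prime → orderOf y = p ^ k → y ∉ center H → cls y = vb / va := by
    intro p k y hp hy hyc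
    by_cases hpr : p = r
    · exact (cls_in hZ R hxa hs hp (hpr ▸ Ne.symm hrs) hz₂ hC₂ y hy hyc).1
    · exact (cls_in hZ R hxa hr hp (Ne.symm hpr) hz₁ hC₁ y hy hyc).1
  have hcenG : ∀ w : H, (w : G) ≠ 1 → w ∈ center H → centralizer ({(w : G)} : Set G) = H :=
    fun w hw hwc => eq_of_centralises hZ R hxa hw fun c hc =>
      commute_iff.2 (congrArg Subtype.val (mem_center_iff.1 hwc ⟨c, hc⟩))
  refine equal_of_primary hclass ?_
  -- inclusion, when a third prime carries the centraliser of `x`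
  have h3rd : ∀ (t p p' k l : ℕ) (z : G) (y y' : H), t.Prime → p.Prime → p'.Prime → p ≠ p' → t ≠ p →
      t ≠ p' → orderOf z = t → centralizer ({z} : Set G) = H → orderOf y = p ^ k →
      orderOf y' = p' ^ l → y ∉ center H → y' ∉ center H → Commute y y' →
      centralizer ({y} : Set H) = centralizer ({y'} : Set H) := by
    intro t p p' k l z y y' ht hp hp' hpp htp htp' hz hzC hy hy' hyc hyc' hcm
    have h1 := hstep t p p' k l z y y' ht hp hp' hpp htp htp' hz hzC hy hy' hyc hcm
    have h2 := hstep t p' p l k z y' y ht hp' hp hpp.symm htp' htp hz hzC hy' hy hyc' hcm.symm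
    ext w
    simp only [commute_iff]
    exact ⟨fun hw => Subtype.ext (commute_iff.1 (h1 ⟨w.2, commute_iff.2
        (congrArg Subtype.val hw.eq)⟩)).eq,
      fun hw => Subtype.ext (commute_iff.1 (h2 ⟨w.2, commute_iff.2 (congrArg Subtype.val hw.eq)⟩)).eq⟩
  intro p p' k l y y' hp hp' hpp hy hy' hyc hyc' hcm
  by_cases h1 : r ≠ p ∧ r ≠ p'
  · exact h3rd r p p' k l z₁ y y' hr hp hp' hpp h1.1 h1.2 hz₁ hC₁ hy hy' hyc hyc' hcm
  by_cases h2 : s ≠ p ∧ s ≠ p'
  · exact h3rd s p p' k l z₂ y y' hs hp hp' hpp h2.1 h2.2 hz₂ hC₂ hy hy' hyc hyc' hcm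
  rw [not_and_or, not_not, not_not] at h1 h2
  have hqp : q ≠ p := by rcases h1 with e | e <;> rcases h2 with e' | e' <;> subst_vars <;> tauto
  have hqp' : q ≠ p' := by rcases h1 with e | e <;> rcases h2 with e' | e' <;> subst_vars <;> tauto
  -- a further element of order `q`
  obtain ⟨w₀, hw₀H, hw₀⟩ := exists_order_mem hq hqH
  have hw₀' : orderOf (⟨w₀, hw₀H⟩ : H) = q ^ 1 := by rw [Subgroup.orderOf_mk, hw₀, pow_one]
  by_cases hctr : ∃ z : G, orderOf z = q ∧ centralizer ({z} : Set G) = H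
  · obtain ⟨z, hz, hzC⟩ := hctr
    exact h3rd q p p' k l z y y' hq hp hp' hpp hqp hqp' hz hzC hy hy' hyc hyc' hcm
  have hqc : ∀ e : H, orderOf e = q ^ 1 → e ∉ center H := fun e he hc => by
    rw [← Subgroup.orderOf_coe, pow_one] at he
    exact hctr ⟨e, he, hcenG e (ne_one_of_prime hq he) hc⟩
  -- centralisers of noncentral prime power elements contain one
  have hex : ∀ (t : ℕ) (z : G), t.Prime → t ≠ p → orderOf z = t → centralizer ({z} : Set G) = H →
      ∃ e : H, orderOf e = q ^ 1 ∧ Commute e y := by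
    intro t z ht htp hz hzC
    have hb := (cls_in hZ R hxa ht hp htp hz hzC y hy hyc).2
    rw [← Subgroup.orderOf_coe] at hy
    have hi := (inf_eq_of_central hZ R hxa ht hp htp hz hzC hy y.2).1
    obtain ⟨h0, hb₀⟩ := cls_in hZ R hxa hr hq hqr.symm hz₁ hC₁ ⟨w₀, hw₀H⟩ hw₀' (hqc _ hw₀')
    have hd : q ∣ Nat.card (centralizer ({z * (y : G)} : Set G)) := by
      have h1 := (centralizer ({z * (y : G)} : Set G)).card_mul_index
      have h2 := (centralizer ({z₁ * w₀} : Set G)).card_mul_index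
      rw [← h2, show (centralizer ({z * (y : G)} : Set G)).index = vb from hb,
        show (centralizer ({z₁ * w₀} : Set G)).index = vb from hb₀] at h1
      rw [Nat.eq_of_mul_eq_mul_right (hb ▸ Nat.pos_of_ne_zero (cls_ne_zero _)) h1, ← hw₀]
      refine Subgroup.orderOf_dvd_natCard _ (commute_iff.2 ?_)
      exact ((commute_iff.1 (hC₁.symm ▸ hw₀H))).mul_right (Commute.refl w₀)
    obtain ⟨e, he, heo⟩ := exists_order_mem hq hd
    rw [hi] at he
    exact ⟨⟨e, he.1⟩, by rw [Subgroup.orderOf_mk, heo, pow_one], Subtype.ext (commute_iff.1 he.2).eq⟩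
  have hpair : ∃ (tp tp' : ℕ) (za zb : G), tp.Prime ∧ tp'.Prime ∧ tp ≠ p ∧ tp' ≠ p' ∧ tp ≠ q ∧ tp' ≠ q ∧
      orderOf za = tp ∧ centralizer ({za} : Set G) = H ∧ orderOf zb = tp' ∧
      centralizer ({zb} : Set G) = H := by
    rcases h1 with e | e
    · exact ⟨s, r, z₂, z₁, hs, hr, e ▸ Ne.symm hrs, e ▸ hpp, Ne.symm hqs, Ne.symm hqr,
        hz₂, hC₂, hz₁, hC₁⟩
    · exact ⟨r, s, z₁, z₂, hr, hs, e ▸ hpp.symm, e ▸ Ne.symm hrs, Ne.symm hqr, Ne.symm hqs,
        hz₁, hC₁, hz₂, hC₂⟩
  obtain ⟨tp, tp', za, zb, htp, htp', hne1, hne2, hne3, hne4, hza, hCa, hzb, hCb⟩ := hpair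
  obtain ⟨e, heo, hey⟩ := hex tp za htp hne1 hza hCa
  have he1 := h3rd tp p q k 1 za y e htp hp hq hqp.symm hne1 hne3 hza hCa hy heo hyc (hqc e heo)
    hey.symm
  have hey' : Commute y' e := commute_iff.1 (he1 ▸ commute_iff.2 hcm.symm)
  rw [he1, h3rd tp' p' q l 1 zb y' e htp' hp' hq hqp'.symm hne2 hne4 hzb hCb hy' heo hyc' (hqc e heo)
    hey']

/-- At most one prime divides `vb` but not `va`. -/
theorem false_of_two_outside {r₀ : ℕ} (hr₀ : r₀.Prime) (hxo : orderOf x = r₀) {r s : ℕ}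
    [hr : Fact r.Prime] [hs : Fact s.Prime] (hrs : r ≠ s) (hrb : r ∣ vb) (hra : ¬ r ∣ va)
    (hsb : s ∣ vb) (hsa : ¬ s ∣ va) : False := by
  have hzex : ∀ t : ℕ, [Fact t.Prime] → t ∣ vb → ¬ t ∣ va →
      ∃ z : G, orderOf z = t ∧ centralizer ({z} : Set G) = centralizer ({x} : Set G) := by
    intro t _ h1 h2
    by_cases e : t = r₀
    · exact ⟨x, e ▸ hxo, rfl⟩
    · exact exists_central hZ R hxa hr₀ hxo e h1 h2
  obtain ⟨z₁, hz₁, hC₁⟩ := hzex r hrb hra
  obtain ⟨z₂, hz₂, hC₂⟩ := hzex s hsb hsa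
  have hex := exists_noncentral hZ R hxa (ne_one_of_prime hr₀ hxo)
  obtain ⟨d, hd⟩ := R.dvd
  have hdiv : vb / va = d := by rw [hd, Nat.mul_div_cancel_left _ (va_pos hZ R hxa)]
  have hrd : r ∣ vb / va := hdiv ▸ (hr.out.dvd_mul.1 (hd ▸ hrb)).resolve_left hra
  have hsd : s ∣ vb / va := hdiv ▸ (hs.out.dvd_mul.1 (hd ▸ hsb)).resolve_left hsa
  by_cases hq : ∃ q : ℕ, q.Prime ∧ q ≠ r ∧ q ≠ s ∧ q ∣ Nat.card (centralizer ({x} : Set G))
  · obtain ⟨q, hq, hqr, hqs, hqH⟩ := hq
    exact hrs (CfsgLib.FGS.EqualClasses.prime_unique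
      (equal_of_two hZ R hxa hr.out hs.out hrs hq hqr hqs hqH hz₁ hC₁ hz₂ hC₂) hex hr.out hs.out
      hrd hsd)
  push Not at hq
  refine false_of_two_primes (G := centralizer ({x} : Set G)) hrs (fun p hp hd => ?_) ?_ hrd hsd hex
  · by_contra hcon
    push Not at hcon
    exact hq p hp hcon.1 hcon.2 hd
  intro p k y hp hy hyc
  by_cases hpr : p = r
  · exact (cls_in hZ R hxa hs.out hp (hpr ▸ Ne.symm hrs) hz₂ hC₂ y hy hyc).1
  · exact (cls_in hZ R hxa hr.out hp (Ne.symm hpr) hz₁ hC₁ y hy hyc).1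

end CfsgLib.ConjType
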