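import Cfsg.Agent.Lib.ConjType.Isolated
import Cfsg.Agent.Lib.ConjType.Roles
import Cfsg.Agent.Lib.Solvable.KegelWielandt
import Cfsg.Agent.Lib.Solvable.FrobeniusTheorem
import Cfsg.Agent.Lib.FGS.TIHall

/-!
A group with trivial centre, at most three nontrivial class sizes and a proper inclusion between two
centralisers of nonidentity elements is solvable.
-/

set_option autoImplicit false
set_option linter.style.haveILetI false
set_option linter.unusedSectionVars false

namespace CfsgLib.ConjType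

open Subgroup CfsgLib.FGS.TwoLargest

variable {G : Type*} [Group G] [Finite G]

/-- With trivial centre, if all class sizes involve only two primes the group is solvable. -/
theorem isSolvable_of_two_class_primes (hZ : center G = ⊥) {p s : ℕ} (hp : p.Prime) (hs : s.Prime)
    (h : ∀ (x : G) (t : ℕ), t.Prime → t ∣ cls x → t = p ∨ t = s) : Group.IsSolvable G := by
  refine CfsgLib.Char.isSolvable_of_card_eq_pow_mul_pow hp hs
    (a := (Nat.card G).factorization p) (b := (Nat.card G).factorization s) ?_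
  refine (Nat.factorization_le_iff_dvd Nat.card_pos.ne'
    (mul_ne_zero (pow_ne_zero _ hp.ne_zero) (pow_ne_zero _ hs.ne_zero))).1 fun t => ?_
  rw [Nat.factorization_mul (pow_ne_zero _ hp.ne_zero) (pow_ne_zero _ hs.ne_zero),
    hp.factorization_pow, hs.factorization_pow]
  rcases Nat.eq_zero_or_pos ((Nat.card G).factorization t) with h0 | hpos
  · omega
  by_cases htp : t = p
  · subst htp; simp
  by_cases hts : t = s
  · subst hts; simp
  exfalso
  have ht : t.Prime := Nat.prime_of_mem_primeFactors (Finsupp.mem_support_iff.2 hpos.ne')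
  haveI : Fact t.Prime := ⟨ht⟩
  obtain ⟨P⟩ : Nonempty (Sylow t G) := inferInstance
  have htop : centralizer ((P : Subgroup G) : Set G) = ⊤ := by
    refine CfsgLib.FGS.eq_top_of_forall_exists_conj fun g => ?_
    obtain ⟨Q, hQ⟩ := CfsgLib.FGS.CoverCount.exists_mem_centralizer_sylow (p := t) (x := g)
      fun hd => (h g t ht hd).elim htp hts
    obtain ⟨c, hc⟩ := MulAction.exists_smul_eq G Q P
    refine ⟨c, mem_centralizer_iff.2 fun u hu => ?_⟩
    rw [← hc, Sylow.coe_subgroup_smul] at hu
    obtain ⟨w, hw, rfl⟩ := hu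
    have h1 := (Commute.map (show Commute w g from mem_centralizer_iff.1 hQ w hw)
      (MulAut.conj c).toMonoidHom)
    simpa [MulAut.smul_def, mul_assoc] using h1.eq
  refine P.ne_bot_of_dvd_card (Nat.dvd_of_factorization_pos hpos.ne') ((eq_bot_iff_forall _).2 fun u hu => ?_)
  have : u ∈ center G := mem_center_iff.2 fun g =>
    (mem_centralizer_iff.1 (htop ▸ mem_top g : g ∈ centralizer ((P : Subgroup G) : Set G)) u hu).symm
  rwa [hZ, mem_bot] at this

/-- A product of two nilpotent subgroups of coprime index modulo a solvable normal subgroup. -/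
theorem isSolvable_of_coprime_index {R A H : Subgroup G} [R.Normal] [Group.IsSolvable R]
    (hcop : A.index.Coprime H.index) (hA : Group.IsNilpotent (A.map (QuotientGroup.mk' R)))
    (hH : Group.IsNilpotent (H.map (QuotientGroup.mk' R))) : Group.IsSolvable G := by
  haveI : Group.IsSolvable (G ⧸ R) := CfsgLib.Solvable.isSolvable_of_nilpotent_mul hA hH fun z => by
    obtain ⟨g, rfl⟩ := QuotientGroup.mk'_surjective R z
    obtain ⟨a, ha, b, hb, rfl⟩ := CfsgLib.Solvable.mul_of_coprime_index hcop g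
    exact ⟨_, mem_map_of_mem _ ha, _, mem_map_of_mem _ hb, map_mul _ a b⟩
  exact solvable_of_ker_le_range R.subtype (QuotientGroup.mk' R) (by simp)

/-- The core case: no elements of coprime class sizes `na`, `nc` commute. -/
theorem false_of_no_commute (hZ : center G = ⊥) (hns : ¬ Group.IsSolvable G) {na nb nc : ℕ} {g : G}
    (hg : g ≠ 1) (hgb : cls g = nb) (R : Role G na nb)
    (hmem : ∀ v : G, v ≠ 1 → cls v = na ∨ cls v = nb ∨ cls v = nc)
    (hexa : ∃ x : G, x ≠ 1 ∧ cls x = na) (hexc : ∃ v : G, v ≠ 1 ∧ cls v = nc)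
    (hg' : ∃ h : G, h ≠ 1 ∧ cls h = na ∧ centralizer ({g} : Set G) ≤ centralizer ({h} : Set G))
    (hcop : na.Coprime nc) (hnd2 : ¬ nc ∣ na) (up_c : ∀ v : G, v ≠ 1 → cls v ∣ nc → cls v = nc)
    (down_c : ∀ v : G, v ≠ 1 → nc ∣ cls v → cls v = nc ∨ cls v = nb)
    (hNC : ∀ x v : G, x ≠ 1 → v ≠ 1 → cls x = na → cls v = nc → ¬ Commute x v) : False := by
  classical
  letI := Fintype.ofFinite G
  obtain ⟨xa, hxa1, hxa⟩ := hexa
  obtain ⟨vc, hvc, hvcc⟩ := hexc
  obtain ⟨h, hh, hha, hle⟩ := hg'
  have hcard : ∀ u : G, Nat.card (centralizer ({u} : Set G)) * cls u = Nat.card G := fun u =>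
    (centralizer ({u} : Set G)).card_mul_index
  have hclsdvd : ∀ u : G, cls u ∣ Nat.card G := fun u => (centralizer ({u} : Set G)).index_dvd_card
  have hna1 : na ≠ 1 := hxa ▸ cls_ne_one' hZ R hxa hxa1
  have hab := R.dvd
  have hbeq : ∀ {u v : G}, u * v ≠ 1 → centralizer ({u * v} : Set G) ≤ centralizer ({u} : Set G) →
      cls u = nb → centralizer ({u * v} : Set G) = centralizer ({u} : Set G) := fun h1 h2 h3 =>
    centralizer_eq_of_cls h2 (by rw [h3, R.downb _ h1 (h3 ▸ cls_dvd h2)])
  obtain ⟨r₀, x₀, hx₀z, hr₀, -, hx₀⟩ := exists_prime_mem_zpowers hh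
  have hx₀ne := ne_one_of_prime hr₀ hx₀
  have hx₀a : cls x₀ = na := R.up x₀ hx₀ne (hha ▸ cls_dvd (centralizer_le_of_mem_zpowers hx₀z))
  obtain ⟨p₀, v₀, hv₀z, hp₀, -, hv₀⟩ := exists_prime_mem_zpowers hvc
  have hv₀ne := ne_one_of_prime hp₀ hv₀
  have hv₀c : cls v₀ = nc := up_c v₀ hv₀ne (hvcc ▸ cls_dvd (centralizer_le_of_mem_zpowers hv₀z))
  -- every prime divides `na` or `nc`
  have hdisj : ∀ p : ℕ, p.Prime → p ∣ Nat.card G → p ∣ na ∨ p ∣ nc := by
    intro p hp hpG
    by_contra hcon
    push Not at hcon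
    obtain ⟨hpa, hpc⟩ := hcon
    haveI : Fact p.Prime := ⟨hp⟩
    obtain ⟨P⟩ : Nonempty (Sylow p G) := inferInstance
    obtain ⟨w, hwo, hw, -⟩ := exists_central_of_sylow hpG P
    have hw1 := ne_one_of_prime hp hwo
    have hwk : ∃ k, orderOf w = p ^ k := ⟨1, by rw [hwo, pow_one]⟩
    have hwb : cls w = nb := by
      rcases hmem w hw1 with e | e | e
      · obtain ⟨k, hk⟩ := exists_conj_mem (w := v₀) (v := w) (hv₀c ▸ hpc) hwk
        exact absurd (commute_iff.1 hk) (hNC _ _ (by simpa using hw1) hv₀ne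
          (by rw [← cls_eq_of_isConj (isConj_iff.2 ⟨k, rfl⟩), e]) hv₀c)
      · exact e
      · obtain ⟨k, hk⟩ := exists_conj_mem (w := x₀) (v := w) (hx₀a ▸ hpa) hwk
        exact absurd (commute_iff.1 hk).symm (hNC _ _ hx₀ne (by simpa using hw1) hx₀a
          (by rw [← cls_eq_of_isConj (isConj_iff.2 ⟨k, rfl⟩), e]))
    have hkey : ∀ (q : ℕ) (v : G), q.Prime → orderOf v = q → cls v = nc → q = p := by
      intro q v hq hv hvcls
      by_contra hqp
      obtain ⟨k, hk⟩ := exists_conj_mem (w := v) (v := w) (hvcls ▸ hpc) hwk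
      have hw'o : orderOf (k * w * k⁻¹) = p := by rw [orderOf_conj, hwo]
      have hcm : Commute (k * w * k⁻¹) v := commute_iff.1 hk
      have hco := coprime_of_ne hp hq (Ne.symm hqp) hw'o hv
      have hboth := centralizer_mul_le_both hcm hco
      have he := hbeq (mul_ne_one_of_prime hp hcm hw'o hco) hboth.1
        (by rw [← cls_eq_of_isConj (isConj_iff.2 ⟨k, rfl⟩), hwb])
      obtain ⟨l, hl⟩ := exists_conj_mem (w := x₀) (v := k * w * k⁻¹) (hx₀a ▸ hpa)
        ⟨1, by rw [hw'o, pow_one]⟩
      have hx' : Commute (l⁻¹ * x₀ * l) (k * w * k⁻¹) := by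
        have h0 := (commute_iff.1 hl).map (MulAut.conj l⁻¹).toMonoidHom
        simp only [MulEquiv.toMonoidHom_eq_coe, MonoidHom.coe_coe, MulAut.conj_apply, inv_inv] at h0
        rw [show l⁻¹ * (l * (k * w * k⁻¹) * l⁻¹) * l = k * w * k⁻¹ by group] at h0
        exact h0.symm
      have hmem' : l⁻¹ * x₀ * l ∈ centralizer ({v} : Set G) :=
        hboth.2 (he.symm ▸ commute_iff.2 hx')
      refine hNC _ v (fun e => hx₀ne ?_) (ne_one_of_prime hq hv) ?_ hvcls (commute_iff.1 hmem')
      · calc x₀ = l * (l⁻¹ * x₀ * l) * l⁻¹ := by group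
          _ = 1 := by rw [e]; group
      · rw [← hx₀a]; exact (cls_eq_of_isConj (isConj_iff.2 ⟨l⁻¹, by rw [inv_inv]⟩)).symm
    obtain ⟨q, hq, hqd⟩ := Nat.exists_prime_and_dvd hna1
    haveI : Fact q.Prime := ⟨hq⟩
    obtain ⟨Q⟩ : Nonempty (Sylow q G) := inferInstance
    obtain ⟨u, huo, hu, -⟩ := exists_central_of_sylow (hqd.trans (hha ▸ hclsdvd h)) Q
    rcases hmem u (ne_one_of_prime hq huo) with e | e | e
    · exact hu (e ▸ hqd)
    · exact hu (e ▸ hqd.trans hab)
    · exact hpa (hkey q u hq huo e ▸ hqd)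
  -- elements whose order is a prime divisor of `na`
  have hsc_na : ∀ (p : ℕ) (y : G), p.Prime → p ∣ na → orderOf y = p → cls y ≠ na := by
    intro p y hp hpa hy e
    haveI : Fact p.Prime := ⟨hp⟩
    obtain ⟨w, hwo, hw, hwy⟩ := exists_central_commute (hpa.trans (hha ▸ hclsdvd h)) ⟨1, by rw [hy, pow_one]⟩
    have hw1 := ne_one_of_prime hp hwo
    rcases hmem w hw1 with e' | e' | e'
    · exact hw (e' ▸ hpa)
    · exact hw (e' ▸ hpa.trans hab)
    · exact hNC y w (ne_one_of_prime hp hy) hw1 e e' hwy.symm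
  have hsc_g : ∀ p : ℕ, p.Prime → p ∣ na → ¬ p ∣ Nat.card (centralizer ({g} : Set G)) := by
    intro p hp hpa hd
    haveI : Fact p.Prime := ⟨hp⟩
    obtain ⟨y, hym, hy⟩ := exists_order_mem hp hd
    have hy1 := ne_one_of_prime hp hy
    have hxy : Commute x₀ y :=
      (commute_iff.1 (centralizer_le_of_mem_zpowers hx₀z (hle hym))).symm
    have hyb : cls y = nb := by
      rcases hmem y hy1 with e | e | e
      · exact absurd e (hsc_na p y hp hpa hy)
      · exact e
      · exact absurd hxy (hNC x₀ y hx₀ne hy1 hx₀a e)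
    obtain ⟨w, hwo, hw, hwy⟩ := exists_central_commute (hpa.trans (hha ▸ hclsdvd h)) ⟨1, by rw [hy, pow_one]⟩
    have hwc : cls w = nc := by
      rcases hmem w (ne_one_of_prime hp hwo) with e' | e' | e'
      · exact absurd (e' ▸ hpa) hw
      · exact absurd (e' ▸ hpa.trans hab) hw
      · exact e'
    have hco := coprime_of_ne hp hr₀ (fun e => hsc_na p x₀ hp hpa (e.symm ▸ hx₀) hx₀a) hy hx₀
    have hboth := centralizer_mul_le_both hxy.symm hco
    have he := hbeq (mul_ne_one_of_prime hp hxy.symm hy hco) hboth.1 hyb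
    exact hNC x₀ w hx₀ne (ne_one_of_prime hp hwo) hx₀a hwc
      (commute_iff.1 (hboth.2 (he.symm ▸ commute_iff.2 hwy))).symm
  have hb_card : ∀ u : G, cls u = nb →
      Nat.card (centralizer ({u} : Set G)) = Nat.card (centralizer ({g} : Set G)) := fun u e => by
    have h1 := hcard u
    rw [e, ← hcard g, hgb] at h1
    exact Nat.eq_of_mul_eq_mul_right (hgb ▸ Nat.pos_of_ne_zero (cls_ne_zero g)) h1
  have hnb_sc : ∀ (p : ℕ) (u y : G), p.Prime → p ∣ na → orderOf y = p →
      Commute y u → cls u ≠ nb := by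
    intro p u y hp hpa hy hyu e
    refine hsc_g p hp hpa (hb_card u e ▸ hy ▸ ?_)
    exact Subgroup.orderOf_dvd_natCard _ (commute_iff.2 hyu)
  have hsc : ∀ (p : ℕ) (y : G), p.Prime → p ∣ na → orderOf y = p → cls y = nc := by
    intro p y hp hpa hy
    rcases hmem y (ne_one_of_prime hp hy) with e | e | e
    · exact absurd e (hsc_na p y hp hpa hy)
    · exact absurd e (hnb_sc p y y hp hpa hy (Commute.refl y))
    · exact e
  have hxcop : ∀ x : G, x ≠ 1 → cls x = na →
      na.Coprime (Nat.card (centralizer ({x} : Set G))) := fun x hx e =>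
    Nat.coprime_of_dvd fun p hp h1 h2 => by
      obtain ⟨y, hym, hy⟩ := exists_order_mem hp h2
      exact hNC x y hx (ne_one_of_prime hp hy) e (hsc p y hp h1 hy) (commute_iff.1 hym).symm
  have hnc_r : ∀ (r : ℕ) (s : G), r.Prime → r ∣ nc → orderOf s = r → cls s ≠ nc := by
    intro r s hr hrc hs e
    haveI : Fact r.Prime := ⟨hr⟩
    obtain ⟨q, hq, hqd⟩ := Nat.exists_prime_and_dvd hna1
    haveI : Fact q.Prime := ⟨hq⟩
    obtain ⟨y₀, -, hy₀⟩ := exists_order_mem hq (H := (⊤ : Subgroup G))
      (by rw [card_top]; exact hqd.trans (hha ▸ hclsdvd h))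
    have hqc : ¬ q ∣ nc := fun hd => hq.ne_one (Nat.eq_one_of_dvd_coprimes hcop hqd hd)
    obtain ⟨k, hk⟩ := exists_conj_mem (w := s) (v := y₀) (e ▸ hqc) ⟨1, by rw [hy₀, pow_one]⟩
    set y := k * y₀ * k⁻¹
    have hyo : orderOf y = q := by rw [orderOf_conj, hy₀]
    have hyc := hsc q y hq hqd hyo
    have hcm : Commute y s := commute_iff.1 hk
    have hqr : q ≠ r := fun h' => hqc (h' ▸ hrc)
    have hco := coprime_of_ne hq hr hqr hyo hs
    have hboth := centralizer_mul_le_both hcm hco
    have hyy : Commute y (y * s) := (Commute.refl y).mul_right hcm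
    have hz : cls (y * s) = nc := by
      rcases down_c _ (mul_ne_one_of_prime hq hcm hyo hco) (hyc ▸ cls_dvd hboth.1) with e' | e'
      · exact e'
      · exact absurd e' (hnb_sc q _ y hq hqd hyo hyy)
    have hys : centralizer ({y} : Set G) = centralizer ({s} : Set G) :=
      (centralizer_eq_of_cls hboth.1 (hz.trans hyc.symm)).symm.trans
        (centralizer_eq_of_cls hboth.2 (hz.trans e.symm))
    obtain ⟨w, hwo, hw, hws⟩ := exists_central_commute (hrc.trans (hvcc ▸ hclsdvd vc)) ⟨1, by rw [hs, pow_one]⟩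
    have hwy : Commute w y := commute_iff.1 (hys.symm ▸ commute_iff.2 hws)
    rcases hmem w (ne_one_of_prime hr hwo) with e' | e' | e'
    · exact hNC w y (ne_one_of_prime hr hwo) (ne_one_of_prime hq hyo) e' hyc hwy
    · exact hnb_sc q w y hq hqd hyo hwy.symm e'
    · exact hw (e' ▸ hrc)
  -- the centraliser of an element of class size `nc` has order `na`
  have hvcard : ∀ v : G, v ≠ 1 → cls v = nc → Nat.card (centralizer ({v} : Set G)) = na := by
    intro v hv e
    obtain ⟨q, v', hv'z, hq, -, hv'⟩ := exists_prime_mem_zpowers hv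
    have hv'c : cls v' = nc :=
      up_c v' (ne_one_of_prime hq hv') (e ▸ cls_dvd (centralizer_le_of_mem_zpowers hv'z))
    have hqa : q ∣ na := (hdisj q hq (hv' ▸ orderOf_dvd_natCard v')).resolve_right
      fun hd => hnc_r q v' hq hd hv' hv'c
    have hprimes : ∀ r : ℕ, r.Prime → r ∣ Nat.card (centralizer ({v} : Set G)) → r ∣ na := by
      intro r hr hd
      refine (hdisj r hr (hd.trans (Subgroup.card_subgroup_dvd_card _))).resolve_right fun hrc => ?_
      obtain ⟨y, hym, hy⟩ := exists_order_mem hr hd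
      have hyv' : Commute v' y := (commute_iff.1 (centralizer_le_of_mem_zpowers hv'z hym)).symm
      rcases hmem y (ne_one_of_prime hr hy) with e' | e' | e'
      · exact hNC y v (ne_one_of_prime hr hy) hv e' e (commute_iff.1 hym)
      · exact hnb_sc q y v' hq hqa hv' hyv' e'
      · exact hnc_r r y hr hrc hy e'
    have hcopv : (Nat.card (centralizer ({v} : Set G))).Coprime
        (Nat.card (centralizer ({h} : Set G))) := Nat.coprime_of_dvd fun r hr h1 h2 =>
      hr.ne_one (Nat.eq_one_of_dvd_coprimes (hxcop h hh hha) (hprimes r hr h1) h2)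
    have he : Nat.card (centralizer ({v} : Set G)) * nc =
        Nat.card (centralizer ({h} : Set G)) * na := by rw [← e, hcard v, ← hha, hcard h]
    exact Nat.dvd_antisymm (hcopv.dvd_of_dvd_mul_left (he ▸ dvd_mul_right _ _))
      (hcop.dvd_of_dvd_mul_right (he.symm ▸ dvd_mul_left _ _))
  have hvA : ∀ v : G, v ≠ 1 → cls v = nc → ∀ z ∈ centralizer ({v} : Set G), z ≠ 1 → cls z = nc := by
    intro v hv e z hz hz1
    obtain ⟨s, z', hz'z, hs, hsd, hz'⟩ := exists_prime_mem_zpowers hz1
    have hsa : s ∣ na := (hvcard v hv e) ▸ hsd.trans (Subgroup.orderOf_dvd_natCard _ hz)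
    rcases down_c z hz1 (hsc s z' hs hsa hz' ▸ cls_dvd (centralizer_le_of_mem_zpowers hz'z)) with e' | e'
    · exact e'
    · refine absurd e' (hnb_sc s z z' hs hsa hz' ?_)
      obtain ⟨i, rfl⟩ := hz'z
      exact (Commute.refl z).zpow_left i
  have hxcard : ∀ x : G, x ≠ 1 → cls x = na → Nat.card (centralizer ({x} : Set G)) = nc := by
    intro x hx e
    have h1 := hcard x
    rw [e, ← hcard v₀, hvcard v₀ hv₀ne hv₀c, hv₀c, mul_comm na nc] at h1
    exact Nat.eq_of_mul_eq_mul_right (Nat.pos_of_ne_zero (hha ▸ cls_ne_zero h)) h1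
  -- the radical
  obtain ⟨Rad, hRn, hRs, hRmax⟩ := CfsgLib.PrimePowerClass.exists_radical G
  haveI := hRn; haveI := hRs
  set A := centralizer ({v₀} : Set G) with hA
  have hAcard : Nat.card A = na := hvcard v₀ hv₀ne hv₀c
  -- if all elements of class size `na` are in the radical, then `G` is solvable
  have hfin : (∀ x : G, x ≠ 1 → cls x = na → x ∈ Rad) → Group.IsNilpotent A → False := by
    intro hall hAnil
    set c := Nat.card (centralizer ({g} : Set G)) with hc
    obtain ⟨d, hd⟩ := hab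
    have hdiv : nb / na = d := by
      rw [hd, Nat.mul_div_cancel_left _ (Nat.pos_of_ne_zero (hha ▸ cls_ne_zero h))]
    have hdc : d * c = nc := by
      have h1 := hcard g
      rw [hgb, hd, ← hcard xa, hxcard xa hxa1 hxa, hxa] at h1
      refine Nat.eq_of_mul_eq_mul_right (Nat.pos_of_ne_zero (hha ▸ cls_ne_zero h)) ?_
      rw [← h1, hc]; ring
    have hd1 : d ≠ 1 := fun e => absurd (by rw [hd, e, mul_one] : nb = na) R.lt.ne'
    obtain ⟨q, hq, hqd⟩ := Nat.exists_prime_and_dvd hd1
    haveI : Fact q.Prime := ⟨hq⟩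
    have hqa : ¬ q ∣ na := fun hqa =>
      hq.ne_one (Nat.eq_one_of_dvd_coprimes hcop hqa (hdc ▸ dvd_mul_of_dvd_left hqd c))
    have hqb : q ∣ nb := hd ▸ dvd_mul_of_dvd_right hqd na
    have hdq : ∀ t : ℕ, t.Prime → t ∣ d → t = q := by
      intro t ht htd
      by_contra htq
      haveI : Fact t.Prime := ⟨ht⟩
      exact false_of_two_outside hZ R hx₀a hr₀ hx₀ htq (hd ▸ dvd_mul_of_dvd_right htd na)
        (fun hta => ht.ne_one (Nat.eq_one_of_dvd_coprimes hcop hta (hdc ▸ dvd_mul_of_dvd_left htd c)))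
        hqb hqa
    obtain ⟨j, hj⟩ : ∃ j, d = q ^ j :=
      ⟨_, Nat.eq_prime_pow_of_unique_prime_dvd (fun e => cls_ne_zero g (by rw [hgb, hd, e, mul_zero]))
        fun {t} ht htd => hdq t ht htd⟩
    -- choose `x`
    obtain ⟨r, x, hr, hxo, hxna, hchoice⟩ : ∃ (r : ℕ) (x : G), r.Prime ∧ orderOf x = r ∧ cls x = na ∧
        (r = q → ∀ (t : ℕ) (u : G), t.Prime → orderOf u = t → cls u = na → t = q) := by
      by_cases hex : ∃ (t : ℕ) (u : G), t.Prime ∧ orderOf u = t ∧ cls u = na ∧ t ≠ q
      · obtain ⟨t, u, ht, hu, hua, htq⟩ := hex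
        exact ⟨t, u, ht, hu, hua, fun e => absurd e htq⟩
      · push Not at hex
        exact ⟨r₀, x₀, hr₀, hx₀, hx₀a, fun _ t u ht hu hua => hex t u ht hu hua⟩
    have hx1 := ne_one_of_prime hr hxo
    set H := centralizer ({x} : Set G) with hH
    have hHcard : Nat.card H = nc := hxcard x hx1 hxna
    have hcls : ∀ (p k : ℕ) (y : H), p.Prime → orderOf y = p ^ k → (y : G) ∉ Rad →
        ∃ i, cls y = q ^ i := by
      intro p k y hp hy hyR
      by_cases hyc : y ∈ center H
      · exact ⟨0, by rw [pow_zero]; exact cls_eq_one.2 hyc⟩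
      refine ⟨j, ?_⟩
      rw [← hj, ← hdiv]
      by_cases hpr : p = r
      swap
      · exact (cls_in hZ R hxna hr hp (Ne.symm hpr) hxo rfl y hy hyc).1
      by_cases hrq : r = q
      swap
      · obtain ⟨z, hz, hzC⟩ := exists_central hZ R hxna hr hxo (Ne.symm hrq) hqb hqa
        exact (cls_in hZ R hxna hq hp (hpr ▸ Ne.symm hrq) hz hzC y hy hyc).1
      have hy1 : (y : G) ≠ 1 := fun e => hyR (e ▸ one_mem _)
      have hyb : cls (y : G) = nb := by
        rcases hmem _ hy1 with e | e | e
        · exact absurd (hall _ hy1 e) hyR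
        · exact e
        · exact absurd (commute_iff.1 y.2).symm (hNC x _ hx1 hy1 hxna e)
      by_cases hcq : ∀ t : ℕ, t.Prime → t ∣ c → t = q
      · exfalso
        obtain ⟨e, he⟩ : ∃ e, nc = q ^ e := ⟨_, Nat.eq_prime_pow_of_unique_prime_dvd
          (hvcc ▸ cls_ne_zero vc) fun {t} ht htd => by
            rw [← hdc] at htd
            rcases ht.dvd_mul.1 htd with e | e
            exacts [hdq t ht e, hcq t ht e]⟩
        have hHq : IsPGroup q H := IsPGroup.of_card (hHcard.trans he)
        refine hns (isSolvable_of_coprime_index (R := Rad) (A := A) (H := H) ?_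
          (CfsgLib.Cores.isNilpotent_map hAnil _)
          (CfsgLib.Cores.isNilpotent_map hHq.isNilpotent _))
        rw [show A.index = nc from hv₀c, show H.index = na from hxna]
        exact hcop.symm
      push Not at hcq
      obtain ⟨t, ht, htc, htq⟩ := hcq
      rw [← hb_card _ hyb] at htc
      obtain ⟨u, hu, huo⟩ := exists_order_mem ht htc
      have hu1 := ne_one_of_prime ht huo
      have hub : cls u = nb := by
        rcases hmem u hu1 with e | e | e
        · exact absurd (hchoice hrq t u ht huo e) htq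
        · exact e
        · exfalso
          have := hvA u hu1 e _ (commute_iff.2 (commute_iff.1 hu).symm) hy1
          exact hna1 (Nat.eq_one_of_dvd_coprimes hcop dvd_rfl
            (((dvd_mul_right na d).trans hd.symm.dvd).trans (hyb.symm.trans this).dvd))
      have hyu : Commute (y : G) u := (commute_iff.1 hu).symm
      rw [← Subgroup.orderOf_coe] at hy
      have hco1 : (orderOf (y : G)).Coprime (orderOf u) := by
        rw [hy, huo]
        exact ((Nat.coprime_primes hp ht).2 (fun e => htq (by rw [← e, hpr, hrq]))).pow_left k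
      have hb1 := centralizer_mul_le_both hyu hco1
      have hne1 := mul_ne_one_of_coprime hyu hco1 hy1
      have he1 := hbeq hne1 hb1.1 hyb
      have hyu' : centralizer ({(y : G)} : Set G) = centralizer ({u} : Set G) :=
        he1.symm.trans (centralizer_eq_of_cls hb1.2 (by
          rw [hub, cls, he1]; exact hyb))
      have hxu : Commute u x := (commute_iff.1 (hyu' ▸ commute_iff.2 (commute_iff.1 y.2).symm :
        x ∈ centralizer ({u} : Set G))).symm
      have hco2 := coprime_of_ne ht hr (fun e => htq (e.trans hrq)) huo hxo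
      have hb2 := centralizer_mul_le_both hxu hco2
      have he2 := hbeq (mul_ne_one_of_prime ht hxu huo hco2) hb2.1 hub
      have hsub : centralizer ({(y : G)} : Set G) ≤ H := hyu' ▸ he2 ▸ hb2.2
      have h4 := cls_subgroup_mul H y
      rw [inf_eq_right.2 hsub, show (centralizer ({(y : G)} : Set G)).index = nb from hyb,
        show H.index = na from hxna] at h4
      rw [← h4, Nat.mul_div_cancel _ (Nat.pos_of_ne_zero (hha ▸ cls_ne_zero h))]
    -- the quotient of `H`
    set π := (QuotientGroup.mk' Rad).subgroupMap H with hπ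
    have hπsur : Function.Surjective π := MonoidHom.subgroupMap_surjective _ _
    have hHnil : Group.IsNilpotent (H.map (QuotientGroup.mk' Rad)) := by
      refine isNilpotent_of_primary_pow (q := q) fun p k z hp hz => ?_
      obtain ⟨y, rfl⟩ := hπsur z
      haveI : Fact p.Prime := ⟨hp⟩
      obtain ⟨a, b, hab', ha, hb, ⟨i, hi⟩, hbp⟩ := CfsgLib.Cores.exists_pow_mul_pow p y
      have hb1 : π b = 1 := by
        obtain ⟨l, rfl⟩ := hb
        rw [map_zpow, ← orderOf_eq_one_iff]
        refine Nat.eq_one_of_dvd_coprimes ((hbp.coprime_dvd_left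
          ((map_zpow π y l).symm ▸ orderOf_map_dvd π (y ^ l))).pow_right k) dvd_rfl ?_
        rw [← hz]
        exact orderOf_dvd_of_mem_zpowers (zpow_mem (mem_zpowers _) l)
      have hya : π y = π a := by rw [hab', map_mul, hb1, mul_one]
      rw [hya]
      by_cases haR : (a : G) ∈ Rad
      · refine ⟨0, ?_⟩
        rw [show π a = 1 from Subtype.ext ((QuotientGroup.eq_one_iff _).2 haR), pow_zero]
        exact cls_eq_one.2 (one_mem _)
      obtain ⟨e, he⟩ := hcls p i a hp hi haR
      obtain ⟨e', -, he'⟩ := (Nat.dvd_prime_pow hq).1 (((Subgroup.index_dvd_of_le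
        (K := centralizer ({π a} : Set (H.map (QuotientGroup.mk' Rad))))
        (H := (centralizer ({a} : Set H)).map π) (by
          rintro _ ⟨w, hw, rfl⟩
          exact commute_iff.2 ((commute_iff.1 hw).map π))).trans
        (Subgroup.index_map_dvd _ hπsur)).trans he.dvd)
      exact ⟨e', he'⟩
    refine hns (isSolvable_of_coprime_index (R := Rad) (A := A) (H := H) ?_
      (CfsgLib.Cores.isNilpotent_map hAnil _) hHnil)
    rw [show A.index = nc from hv₀c, show H.index = na from hxna]
    exact hcop.symm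
  -- `na` is not a prime power
  obtain ⟨p₁, hp₁, hp₁a, hp₁ne⟩ : ∃ p : ℕ, p.Prime ∧ p ∣ na ∧ p ≠ p₀ := by
    by_contra hcon
    push Not at hcon
    have hpow := Nat.eq_prime_pow_of_unique_prime_dvd (hha ▸ cls_ne_zero h)
      (fun {q} hq hd => hcon q hq hd)
    haveI : Fact p₀.Prime := ⟨hp₀⟩
    refine hfin (fun x _ hx => ?_) (IsPGroup.of_card (hAcard.trans hpow)).isNilpotent
    obtain ⟨L, hL1, hL2, hxL⟩ := exists_solvable_normal (hx.trans hpow)
    exact hRmax L hL1 hL2 hxL
  have hp₀a : p₀ ∣ na := by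
    rw [← hAcard, ← hv₀]
    exact Subgroup.orderOf_dvd_natCard _ (self_mem v₀)
  have hpair : ∀ (p q : ℕ) (a b : G), p.Prime → q.Prime → p ∣ na → q ∣ na → p ≠ q →
      orderOf a = p → orderOf b = q → Commute a b →
      centralizer ({a} : Set G) = centralizer ({b} : Set G) := by
    intro p q a b hp hq hpa hqa hpq ha hb hab'
    have hco := coprime_of_ne hp hq hpq ha hb
    have hboth := centralizer_mul_le_both hab' hco
    have hac := hsc p a hp hpa ha
    have hz : cls (a * b) = nc := by
      rcases down_c _ (mul_ne_one_of_prime hp hab' ha hco) (hac ▸ cls_dvd hboth.1) with e' | e'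
      · exact e'
      · exact absurd e' (hnb_sc p _ a hp hpa ha ((Commute.refl a).mul_right hab'))
    exact (centralizer_eq_of_cls hboth.1 (hz.trans hac.symm)).symm.trans
      (centralizer_eq_of_cls hboth.2 (hz.trans (hsc q b hq hqa hb).symm))
  have hAeq : ∀ v : G, v ≠ 1 → cls v = nc → ∀ z ∈ centralizer ({v} : Set G), z ≠ 1 →
      centralizer ({z} : Set G) = centralizer ({v} : Set G) := by
    intro v hv hvcl z hz hz1
    obtain ⟨t, v', hv'z, ht, htd, hv'⟩ := exists_prime_mem_zpowers hv
    have hta : t ∣ na := hvcard v hv hvcl ▸ htd.trans (Subgroup.orderOf_dvd_natCard _ (self_mem v))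
    have hvv : centralizer ({v} : Set G) = centralizer ({v'} : Set G) :=
      centralizer_eq_of_cls (centralizer_le_of_mem_zpowers hv'z) (hvcl.trans (hsc t v' ht hta hv').symm)
    rw [hvv] at hz ⊢
    obtain ⟨s, z', hz'z, hs, hsd, hz'⟩ := exists_prime_mem_zpowers hz1
    have hz'A : z' ∈ centralizer ({v'} : Set G) := (zpowers_le.2 hz) hz'z
    have hcardv' : Nat.card (centralizer ({v'} : Set G)) = na := by rw [← hvv, hvcard v hv hvcl]
    have hsa : s ∣ na := hcardv' ▸ hz' ▸ Subgroup.orderOf_dvd_natCard _ hz'A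
    have hz'eq : centralizer ({z'} : Set G) = centralizer ({v'} : Set G) := by
      by_cases hst : s = t
      · obtain ⟨q, hq, hqa, hqt⟩ : ∃ q : ℕ, q.Prime ∧ q ∣ na ∧ q ≠ t := by
          by_cases e : t = p₀
          · exact ⟨p₁, hp₁, hp₁a, e ▸ hp₁ne⟩
          · exact ⟨p₀, hp₀, hp₀a, Ne.symm e⟩
        obtain ⟨b, hbA, hb⟩ := exists_order_mem hq (H := centralizer ({v'} : Set G))
          (by rw [hcardv']; exact hqa)
        have hbv := hpair q t b v' hq ht hqa hta hqt hb hv' (commute_iff.1 hbA)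
        rw [hpair s q z' b hs hq hsa hqa (hst ▸ hqt.symm) hz' hb
          (commute_iff.1 (hbv.symm ▸ hz'A)), hbv]
      · exact hpair s t z' v' hs ht hsa hta hst hz' hv' (commute_iff.1 hz'A)
    refine (centralizer_eq_of_cls (centralizer_le_of_mem_zpowers hz'z) ?_).trans hz'eq
    rw [hvA v hv hvcl z (hvv.symm ▸ hz) hz1, hsc s z' hs hsa hz']
  have habel : ∀ v : G, v ≠ 1 → cls v = nc → ∀ a ∈ centralizer ({v} : Set G),
      ∀ b ∈ centralizer ({v} : Set G), a * b = b * a := fun v hv e a ha b hb => by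
    rcases eq_or_ne a 1 with rfl | ha1
    · rw [one_mul, mul_one]
    · exact (commute_iff.1 ((hAeq v hv e a ha ha1).symm ▸ hb : b ∈ centralizer ({a} : Set G))).symm
  have hAab : ∀ a ∈ A, ∀ b ∈ A, a * b = b * a := habel v₀ hv₀ne hv₀c
  have hAnil : Group.IsNilpotent A := by
    letI : CommGroup A :=
      { (inferInstance : Group A) with mul_comm := fun a b => Subtype.ext (hAab a a.2 b b.2) }
    infer_instance
  -- normal subgroups share primes with `na`
  have hshare : ∀ N : Subgroup G, N.Normal → N ≠ ⊥ → ∃ p : ℕ, p.Prime ∧ p ∣ na ∧ p ∣ Nat.card N := by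
    intro N hN hne
    by_contra hcon
    push Not at hcon
    haveI := hN
    have hcoprime : ∀ D : Subgroup G, (∀ p : ℕ, p.Prime → p ∣ na → ¬ p ∣ Nat.card D) → D.Normal →
        ∀ x : G, x ≠ 1 → cls x = na → D ≤ centralizer ({x} : Set G) := by
      intro D hD hDn x _ hx
      haveI := hDn
      rw [← relIndex_eq_one]
      refine Nat.eq_one_of_dvd_coprimes (Nat.coprime_of_dvd fun p hp h1 h2 => hD p hp h2 h1)
        (relIndex_dvd_card _ D)
        (hx ▸ CfsgLib.Solvable.relIndex_dvd_index_of_normal_left D _)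
    have hD : ∀ p : ℕ, p.Prime → p ∣ na → ¬ p ∣ Nat.card (centralizer (N : Set G)) := by
      intro p hp hpa hd
      obtain ⟨y, hy, hyo⟩ := exists_order_mem hp hd
      obtain ⟨n, hn, hn1⟩ := N.ne_bot_iff_exists_ne_one.1 hne |> fun ⟨⟨n, hn⟩, h⟩ =>
        (⟨n, hn, fun e => h (Subtype.ext e)⟩ : ∃ n ∈ N, n ≠ 1)
      have hny : n ∈ centralizer ({y} : Set G) := commute_iff.2 (mem_centralizer_iff.1 hy n hn)
      obtain ⟨s, n', hn'z, hs, hsd, hn'⟩ := exists_prime_mem_zpowers hn1
      exact hcon s hs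
        (hvcard y (ne_one_of_prime hp hyo) (hsc p y hp hpa hyo) ▸
          hsd.trans (Subgroup.orderOf_dvd_natCard _ hny))
        (hsd.trans (Subgroup.orderOf_dvd_natCard _ hn))
    haveI hDn : (centralizer (N : Set G)).Normal := Subgroup.normal_centralizer
    refine hfin (fun x hx1 hx => ?_) hAnil
    set D := centralizer (N : Set G)
    have hxD : x ∈ D := mem_centralizer_iff.2 fun n hn =>
      (commute_iff.1 (hcoprime N hcon hN x hx1 hx hn)).eq
    set Z := (center D).map D.subtype with hZD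
    haveI : Z.Normal := by rw [hZD]; infer_instance
    refine hRmax Z inferInstance ?_ ⟨⟨x, hxD⟩, mem_center_iff.2 fun d => Subtype.ext
      (commute_iff.1 (hcoprime D hD hDn x hx1 hx d.2)).eq, rfl⟩
    letI : CommGroup (center D) :=
      { (inferInstance : Group (center D)) with mul_comm := fun u v => Subtype.ext (mem_center_iff.1 v.2 u) }
    exact solvable_of_surjective ((D.subtype).subgroupMap_surjective (center D))
  -- no abelian normal subgroup
  have hnab : ∀ N : Subgroup G, N.Normal → N ≠ ⊥ → ¬ (∀ a ∈ N, ∀ b ∈ N, a * b = b * a) := by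
    intro N hN hne hNab
    obtain ⟨p, hp, hpa, hpN⟩ := hshare N hN hne
    obtain ⟨y, hyN, hy⟩ := exists_order_mem hp hpN
    have hy1 := ne_one_of_prime hp hy
    have hyc := hsc p y hp hpa hy
    set A' := centralizer ({y} : Set G) with hA'
    haveI : A'.Normal := by
      refine ⟨fun a ha k => commute_iff.2 ?_⟩
      have hk : k⁻¹ * y * k ∈ N := by simpa using hN.conj_mem y hyN k⁻¹
      have e := hAeq y hy1 hyc (k⁻¹ * y * k) (commute_iff.2 (hNab _ hk _ hyN))
        (fun e => hy1 (by
          calc y = k * (k⁻¹ * y * k) * k⁻¹ := by group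
            _ = 1 := by rw [e]; group))
      rw [← hA'] at e
      have h1 := (commute_iff.1 (e.symm ▸ ha : a ∈ centralizer ({k⁻¹ * y * k} : Set G))).map
        (MulAut.conj k).toMonoidHom
      simpa [mul_assoc] using h1
    obtain ⟨x, hx1, hxna⟩ : ∃ x : G, x ≠ 1 ∧ cls x = na := ⟨xa, hxa1, hxa⟩
    set H := centralizer ({x} : Set G) with hH
    have hAH : ∀ a ∈ A', a ∈ H → a = 1 := fun a ha haH => by
      by_contra ha1
      exact hNC x a hx1 ha1 hxna (hvA y hy1 hyc a ha ha1) (commute_iff.1 haH).symm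
    have hcopi : A'.index.Coprime H.index := by
      rw [show A'.index = nc from hyc, show H.index = na from hxna]; exact hcop.symm
    have hEq : CfsgLib.FGS.EqualClasses.Equal H (nb / na) := by
      intro u huc
      have hu1 : (u : G) ≠ 1 := fun e => huc (by
        rw [show u = 1 from Subtype.ext e]; exact one_mem _)
      have hsub : centralizer ({(u : G)} : Set G) ≤ H := by
        intro w hw
        obtain ⟨a, ha, b, hb, rfl⟩ := CfsgLib.Solvable.mul_of_coprime_index hcopi w
        have hu' : (u : G) * a * (u : G)⁻¹ ∈ A' :=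
          (inferInstance : A'.Normal).conj_mem a ha _
        have h1 : a⁻¹ * ((u : G) * a * (u : G)⁻¹) = b * (u : G) * b⁻¹ * (u : G)⁻¹ := by
          have e := (commute_iff.1 hw).eq
          calc a⁻¹ * ((u : G) * a * (u : G)⁻¹) = a⁻¹ * ((u : G) * (a * b)) * b⁻¹ * (u : G)⁻¹ := by group
            _ = a⁻¹ * ((a * b) * (u : G)) * b⁻¹ * (u : G)⁻¹ := by rw [e]
            _ = b * (u : G) * b⁻¹ * (u : G)⁻¹ := by group
        have h2 : a⁻¹ * ((u : G) * a * (u : G)⁻¹) = 1 := hAH _ (mul_mem (inv_mem ha) hu')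
          (h1 ▸ mul_mem (mul_mem (mul_mem hb u.2) (inv_mem hb)) (inv_mem u.2))
        have hau : a ∈ centralizer ({(u : G)} : Set G) := by
          rw [inv_mul_eq_one] at h2
          exact commute_iff.2 (mul_inv_eq_iff_eq_mul.1 h2.symm).symm
        rcases eq_or_ne a 1 with rfl | ha1
        · rwa [one_mul]
        · exfalso
          have := hAeq y hy1 hyc a ha ha1
          exact hu1 (hAH _ (by rw [hA', ← this]; exact commute_iff.2 (commute_iff.1 hau).symm) u.2)
      show cls u = nb / na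
      have h4 := cls_subgroup_mul H u
      rw [inf_eq_right.2 hsub, show H.index = na from hxna] at h4
      rcases hmem _ hu1 with e | e | e
      · exfalso
        refine huc (mem_center_iff.2 fun w => Subtype.ext ?_)
        have := centralizer_eq_of_cls hsub (e.trans hxna.symm)
        exact (commute_iff.1 (this.symm ▸ w.2 : (w : G) ∈ centralizer ({(u : G)} : Set G))).eq
      · rw [← e]
        show cls u = (centralizer ({(u : G)} : Set G)).index / na
        rw [← h4, Nat.mul_div_cancel _ (Nat.pos_of_ne_zero (hha ▸ cls_ne_zero h))]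
      · exact absurd (commute_iff.1 u.2).symm (hNC x _ hx1 hu1 hxna e)
    haveI : Group.IsNilpotent H := isNilpotent_of_equal hEq
    haveI : Group.IsNilpotent A' := by
      letI : CommGroup A' :=
        { (inferInstance : Group A') with mul_comm := fun a b => Subtype.ext (habel y hy1 hyc a a.2 b b.2) }
      infer_instance
    exact hns (CfsgLib.Solvable.isSolvable_of_nilpotent_mul (A := A') (B := H) inferInstance
      inferInstance (CfsgLib.Solvable.mul_of_coprime_index hcopi))
  -- every nontrivial normal subgroup contains `A`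
  have hcont : ∀ L : Subgroup G, L.Normal → L ≠ ⊥ → A ≤ L := by
    intro L hL hne
    haveI := hL
    obtain ⟨p, hp, hpa, hpL⟩ := hshare L hL hne
    haveI : Fact p.Prime := ⟨hp⟩
    obtain ⟨y, hyL, hy⟩ := exists_order_mem hp hpL
    obtain ⟨k, hk⟩ := exists_conj_mem (w := v₀) (v := y)
      (hv₀c ▸ fun hd => hp.ne_one (Nat.eq_one_of_dvd_coprimes hcop hpa hd)) ⟨1, by rw [hy, pow_one]⟩
    set a₀ := k * y * k⁻¹
    have ha₀L : a₀ ∈ L := hL.conj_mem y hyL k
    have ha₀1 : a₀ ≠ 1 := by simpa [a₀] using ne_one_of_prime hp hy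
    have hnorm : ∀ e : G, ∀ b ∈ A, b ≠ 1 → e * b * e⁻¹ ∈ A → ∀ a ∈ A, e * a * e⁻¹ ∈ A := by
      intro e b hb hb1 heb a ha
      have e1 := hAeq v₀ hv₀ne hv₀c _ heb (by simpa using hb1)
      rw [← hA] at e1
      rw [← e1]
      refine commute_iff.2 ?_
      have h1 := (show Commute a b from hAab a ha b hb).map (MulAut.conj e).toMonoidHom
      simpa using h1
    by_cases hex : ∃ e ∈ L, e ∉ A ∧ ∀ a ∈ A, e * a * e⁻¹ ∈ A
    · obtain ⟨e, heL, heA, he⟩ := hex
      let φ : A → (A ⊓ L : Subgroup G) := fun a => ⟨e * a * e⁻¹ * (a : G)⁻¹,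
        mul_mem (he a a.2) (A.inv_mem a.2), by
          rw [show e * (a : G) * e⁻¹ * (a : G)⁻¹ = e * ((a : G) * e⁻¹ * (a : G)⁻¹) by group]
          exact mul_mem heL (hL.conj_mem _ (L.inv_mem heL) _)⟩
      have hφ : Function.Injective φ := by
        intro a b hab'
        have h1 : e * (a : G) * e⁻¹ * (a : G)⁻¹ = e * (b : G) * e⁻¹ * (b : G)⁻¹ :=
          congrArg Subtype.val hab'
        by_contra hne'
        apply heA
        set c : G := (b : G)⁻¹ * a with hc
        have hcA : c ∈ A := mul_mem (inv_mem b.2) a.2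
        have hc1 : c ≠ 1 := fun h' => hne' (Subtype.ext (inv_mul_eq_one.1 h').symm)
        have h2 : e * c * e⁻¹ = c := by
          calc e * c * e⁻¹ = (e * (b : G) * e⁻¹)⁻¹ * (e * (a : G) * e⁻¹ * (a : G)⁻¹) * a := by
                rw [hc]; group
            _ = (e * (b : G) * e⁻¹)⁻¹ * (e * (b : G) * e⁻¹ * (b : G)⁻¹) * a := by rw [h1]
            _ = c := by rw [hc]; group
        have e1 := hAeq v₀ hv₀ne hv₀c c hcA hc1
        rw [← hA] at e1
        rw [← e1]
        exact commute_iff.2 (mul_inv_eq_iff_eq_mul.1 h2)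
      have hle' := Nat.card_le_card_of_injective φ hφ
      rw [← Subgroup.eq_of_le_of_card_ge (inf_le_left : A ⊓ L ≤ A) hle']
      exact inf_le_right
    · exfalso
      push Not at hex
      set A₀ := A.subgroupOf L with hA₀
      have hNA : normalizer (A₀ : Set L) = A₀ := by
        refine le_antisymm (fun e he => ?_) le_normalizer
        rw [hA₀, mem_subgroupOf]
        by_contra heA
        obtain ⟨a, ha, hna'⟩ := hex e e.2 heA
        refine hna' (hnorm e a₀ hk ha₀1 ?_ a ha)
        exact mem_subgroupOf.1 ((Subgroup.mem_normalizer_iff.1 he ⟨a₀, ha₀L⟩).1 (mem_subgroupOf.2 hk))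
      have hA₀ab : ∀ a ∈ A₀, ∀ b ∈ A₀, a * b = b * a := fun a ha b hb => Subtype.ext
        (hAab a (mem_subgroupOf.1 ha) b (mem_subgroupOf.1 hb))
      have hTI : Cfsg.IsTISubset (A₀ : Set L) := by
        intro e he a ha hea
        by_contra ha1
        apply he
        rw [hNA, hA₀, mem_subgroupOf]
        by_contra heA
        obtain ⟨b, hb, hnb'⟩ := hex e e.2 heA
        exact hnb' (hnorm e a (mem_subgroupOf.1 ha) (fun h' => ha1 (Subtype.ext h'))
          (mem_subgroupOf.1 hea) b hb)
      have hsub : A₀.subgroupOf (normalizer (A₀ : Set L)) = ⊤ := by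
        rw [subgroupOf_eq_top, hNA]
      obtain ⟨N', hN'n, hN'c⟩ := CfsgLib.FGS.exists_normal_complement_of_TI_hall A₀ hTI
        (by rw [hsub, index_top]; exact Nat.coprime_one_right _)
        ⟨⊥, inferInstance, by rw [hsub]; exact isComplement'_bot_top⟩
      have hN'card : Nat.card N' = A₀.index := hN'c.index_eq_card.symm
      have hA₀idx : A₀.index ∣ nc := hv₀c ▸ CfsgLib.Solvable.relIndex_dvd_index_of_normal_left L A
      have hA₀card : Nat.card A₀ ∣ na := by
        rw [← hAcard, ← card_map_of_injective L.subtype_injective]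
        exact card_dvd_of_le (by rw [hA₀, subgroupOf_map_subtype]; exact inf_le_left)
      haveI := hN'n
      have hchar : ∀ z : L, (orderOf z).Coprime (Nat.card A₀) → z ∈ N' := by
        intro z hz
        rw [← QuotientGroup.eq_one_iff, ← orderOf_eq_one_iff]
        refine Nat.eq_one_of_dvd_coprimes hz (orderOf_map_dvd (QuotientGroup.mk' N') z) ?_
        rw [← hN'c.symm.index_eq_card] at *
        exact orderOf_dvd_natCard _
      set M := N'.map L.subtype with hM
      have hMn : M.Normal := by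
        refine ⟨?_⟩
        rintro _ ⟨z, hz, rfl⟩ k
        refine ⟨⟨k * z * k⁻¹, hL.conj_mem _ z.2 k⟩, hchar _ ?_, rfl⟩
        rw [← Subgroup.orderOf_coe, orderOf_conj, Subgroup.orderOf_coe]
        exact Nat.Coprime.coprime_dvd_left (Subgroup.orderOf_dvd_natCard N' hz)
          (hN'card ▸ (Nat.Coprime.coprime_dvd_left hA₀idx (hcop.symm.coprime_dvd_right hA₀card)))
      have hMbot : M = ⊥ := by
        by_contra hMne
        obtain ⟨t, ht, hta, htM⟩ := hshare M hMn hMne
        rw [hM, card_map_of_injective L.subtype_injective, hN'card] at htM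
        exact ht.ne_one (Nat.eq_one_of_dvd_coprimes hcop hta (htM.trans hA₀idx))
      rw [hM, map_eq_bot_iff_of_injective _ L.subtype_injective] at hMbot
      subst hMbot
      rw [isComplement'_bot_left] at hN'c
      exact hnab L hL hne fun a ha b hb => congrArg Subtype.val
        (hA₀ab ⟨a, ha⟩ (hN'c ▸ mem_top _) ⟨b, hb⟩ (hN'c ▸ mem_top _))
  have hperf : ∀ L : Subgroup G, L.Normal → L ≠ ⊥ → A ≤ ⁅L, L⁆ := by
    intro L hL hne
    haveI := hL
    refine hcont _ inferInstance fun e => hnab L hL hne fun a ha b hb => ?_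
    have h1 := Subgroup.commutator_mem_commutator ha hb
    rw [e, mem_bot] at h1
    exact (commutatorElement_eq_one_iff_commute.1 h1).eq
  -- `nc` is not a prime power
  obtain ⟨q₀, hq₀, hq₀c, hq₀r⟩ : ∃ q : ℕ, q.Prime ∧ q ∣ nc ∧ q ≠ r₀ := by
    by_contra hcon
    push Not at hcon
    have hpow := Nat.eq_prime_pow_of_unique_prime_dvd (hvcc ▸ cls_ne_zero vc)
      (fun {q} hq hd => hcon q hq hd)
    haveI : Fact r₀.Prime := ⟨hr₀⟩
    obtain ⟨L, hLn, hLs, hvL⟩ := exists_solvable_normal (hv₀c.trans hpow)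
    have hLne : L ≠ ⊥ := fun e => hv₀ne (mem_bot.1 (e ▸ hvL))
    have hder : ∀ i : ℕ, (derivedSeries L i).map L.subtype ≠ ⊥ ∧
        ((derivedSeries L i).map L.subtype).Normal := by
      intro i
      induction i with
      | zero =>
        rw [derivedSeries_zero, ← MonoidHom.range_eq_map, Subgroup.range_subtype]
        exact ⟨hLne, hLn⟩
      | succ i ih =>
        obtain ⟨ih1, ih2⟩ := ih
        haveI := ih2
        rw [derivedSeries_succ, map_commutator]
        refine ⟨fun e => hnab _ ih2 ih1 fun a ha b hb => ?_, inferInstance⟩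
        have h1 := Subgroup.commutator_mem_commutator ha hb
        rw [e, mem_bot] at h1
        exact (commutatorElement_eq_one_iff_commute.1 h1).eq
    obtain ⟨i, hi⟩ := (Group.isSolvable_def L).1 hLs
    exact (hder i).1 (by rw [hi, Subgroup.map_bot])
  -- the point stabiliser
  set c := Nat.card (centralizer ({g} : Set G)) with hcdef
  obtain ⟨p, x, hp, hxo, hxp, q, hq, hqp, hqc⟩ : ∃ (p : ℕ) (x : G), p.Prime ∧ orderOf x = p ∧
      cls x = na ∧ ∃ q : ℕ, q.Prime ∧ q ≠ p ∧ q ∣ c := by
    by_cases hex : ∃ q : ℕ, q.Prime ∧ q ≠ r₀ ∧ q ∣ c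
    · exact ⟨r₀, x₀, hr₀, hx₀, hx₀a, hex⟩
    push Not at hex
    haveI : Fact q₀.Prime := ⟨hq₀⟩
    obtain ⟨P⟩ : Nonempty (Sylow q₀ G) := inferInstance
    obtain ⟨w, hwo, hw, -⟩ := exists_central_of_sylow (hq₀c.trans (hvcc ▸ hclsdvd vc)) P
    have hr₀c : r₀ ∣ c := by
      obtain ⟨s, g', hg'z, hs, -, hg''⟩ := exists_prime_mem_zpowers hg
      have hsc' : s ∣ c := by
        rw [hcdef, ← hg'']
        exact Subgroup.orderOf_dvd_natCard _ (zpowers_le.2 (self_mem g) hg'z)
      by_cases e : s = r₀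
      · exact e ▸ hsc'
      · exact absurd hsc' (hex s hs e)
    rcases hmem w (ne_one_of_prime hq₀ hwo) with e | e | e
    · exact ⟨q₀, w, hq₀, hwo, e, r₀, hr₀, hq₀r.symm, hr₀c⟩
    · refine absurd ?_ (hex q₀ hq₀ hq₀r)
      rw [← hb_card w e, ← hwo]
      exact Subgroup.orderOf_dvd_natCard _ (self_mem w)
    · exact absurd (e ▸ hq₀c) hw
  have hx1 := ne_one_of_prime hp hxo
  have hidx : Nat.card A = (centralizer ({x} : Set G)).index := hAcard.trans hxp.symm
  have hu : ∀ y : G, y ≠ 1 → cls y = na → ∀ k k' : G, Commute (k * x * k⁻¹) y →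
      Commute (k' * x * k'⁻¹) y → k * x * k⁻¹ = k' * x * k'⁻¹ := fun y hy e =>
    unique_of_complement hy A hperf hAab (fun a ha ha1 => (hAeq v₀ hv₀ne hv₀c a ha ha1).le) hidx
      (hAcard.trans e.symm) (hAcard.symm ▸ hxcop x hx1 hxp)
  have hxk : ∀ k : G, cls (k * x * k⁻¹) = na ∧ orderOf (k * x * k⁻¹) = p := fun k =>
    ⟨(cls_eq_of_isConj (isConj_iff.2 ⟨k, rfl⟩)).symm.trans hxp, by rw [orderOf_conj, hxo]⟩
  have hprime : ∀ (s : ℕ) (y : G), s.Prime → s ≠ p → orderOf y = s → cls y = nb → ∀ k k' : G,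
      Commute (k * x * k⁻¹) y → Commute (k' * x * k'⁻¹) y → k * x * k⁻¹ = k' * x * k'⁻¹ := by
    intro s y hs hsp hy e k k' h1 h2
    have hco := coprime_of_ne hs hp hsp hy (hxk k).2
    have hboth := centralizer_mul_le_both h1.symm hco
    have he := hbeq (mul_ne_one_of_prime hs h1.symm hy hco) hboth.1 e
    have h2' : Commute (k' * x * k'⁻¹) (k * x * k⁻¹) :=
      commute_iff.1 (hboth.2 (he.symm ▸ commute_iff.2 h2))
    exact hu (k * x * k⁻¹) (ne_one_of_prime hp (hxk k).2) (hxk k).1 k k' (Commute.refl _) h2'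
  have hall : ∀ y : G, y ≠ 1 → ∀ k k' : G, Commute (k * x * k⁻¹) y →
      Commute (k' * x * k'⁻¹) y → k * x * k⁻¹ = k' * x * k'⁻¹ := by
    intro y hy k k' h1 h2
    obtain ⟨s, y', hy'z, hs, -, hy'⟩ := exists_prime_mem_zpowers hy
    obtain ⟨i, rfl⟩ := hy'z
    have h1' := h1.zpow_right i
    have h2' := h2.zpow_right i
    rcases hmem _ (ne_one_of_prime hs hy') with e | e | e
    · exact hu _ (ne_one_of_prime hs hy') e k k' h1' h2'
    · by_cases hsp : s = p
      · subst hsp
        obtain ⟨u, hum, hu'⟩ := exists_order_mem hq (hb_card _ e ▸ hqc)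
        have hcm : Commute (y ^ i) u := (commute_iff.1 hum).symm
        have hco := coprime_of_ne hs hq (Ne.symm hqp) hy' hu'
        have hboth := centralizer_mul_le_both hcm hco
        have he := hbeq (mul_ne_one_of_prime hs hcm hy' hco) hboth.1 e
        have hsub : centralizer ({y ^ i} : Set G) ≤ centralizer ({u} : Set G) :=
          he.symm.le.trans hboth.2
        have g1 := commute_iff.1 (hsub (commute_iff.2 h1'))
        have g2 := commute_iff.1 (hsub (commute_iff.2 h2'))
        rcases hmem u (ne_one_of_prime hq hu') with e' | e' | e'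
        · exact hu u (ne_one_of_prime hq hu') e' k k' g1 g2
        · exact hprime q u hq hqp hu' e' k k' g1 g2
        · exact absurd g1 (hNC _ u (ne_one_of_prime hs (hxk k).2) (ne_one_of_prime hq hu') (hxk k).1 e')
      · exact hprime s _ hs hsp hy' e k k' h1' h2'
    · exact absurd h1' (hNC _ _ (ne_one_of_prime hp (hxk k).2) (ne_one_of_prime hs hy') (hxk k).1 e)
  have hbot : centralizer ({x} : Set G) ≠ ⊥ := fun e => hx1 (mem_bot.1 (e ▸ self_mem x))
  have htop : centralizer ({x} : Set G) ≠ ⊤ := fun e => hna1 (by rw [← hxp, cls, e, index_top])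
  have hF : Cfsg.IsFrobeniusComplement (centralizer ({x} : Set G)) := by
    refine ⟨hbot, htop, fun k hk => ?_⟩
    rw [eq_bot_iff]
    rintro y ⟨hy1, hy2⟩
    by_contra hy
    apply hk
    obtain ⟨y', hy', rfl⟩ := hy2
    have hy'c : Commute (k * x * k⁻¹) (k * y' * k⁻¹) := by
      have := (commute_iff.1 hy').symm.map (MulAut.conj k).toMonoidHom
      simpa using this
    have hxc : Commute (1 * x * 1⁻¹) (k * y' * k⁻¹) := by
      simpa using (commute_iff.1 hy1).symm
    have := hall (k * y' * k⁻¹) (by simpa using hy) k 1 hy'c hxc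
    rw [one_mul, inv_one, mul_one, mul_inv_eq_iff_eq_mul] at this
    exact commute_iff.2 this
  obtain ⟨N, -, hN, hcompl⟩ := CfsgLib.Solvable.frobenius_theorem hF
  have hNne : N ≠ ⊥ := fun e => by
    subst e; exact htop (isComplement'_bot_left.1 hcompl)
  have hNcard : Nat.card N = na := hcompl.index_eq_card.symm.trans hxp
  have hAN : A = N := Subgroup.eq_of_le_of_card_ge (hcont N hN hNne) (by rw [hNcard, hAcard])
  exact hnab N hN hNne fun a ha b hb => hAab a (hAN ▸ ha) b (hAN ▸ hb)

/-- With trivial centre and at most three nontrivial class sizes, a proper inclusion of centralisers of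
nonidentity elements forces solvability. -/
theorem isSolvable_of_inclusion (hZ : center G = ⊥)
    (h3 : {m : ℕ | ∃ x : G, x ≠ 1 ∧ cls x = m}.ncard ≤ 3) {g h : G} (hg : g ≠ 1) (hh : h ≠ 1)
    (hle : centralizer ({g} : Set G) ≤ centralizer ({h} : Set G))
    (hne : centralizer ({g} : Set G) ≠ centralizer ({h} : Set G)) : Group.IsSolvable G := by
  classical
  by_contra hns
  set na := cls h with hnadef
  set nb := cls g with hnbdef
  have hab : na ∣ nb := cls_dvd hle
  have hlt : na < nb := lt_of_le_of_ne (Nat.le_of_dvd (Nat.pos_of_ne_zero (cls_ne_zero g)) hab)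
    fun e => hne (centralizer_eq_of_cls hle e.symm)
  have hclsdvd : ∀ u : G, cls u ∣ Nat.card G := fun u => (centralizer ({u} : Set G)).index_dvd_card
  have hne1 : ∀ v : G, v ≠ 1 → cls v ≠ 1 := fun v hv e => by
    have := cls_eq_one.1 e
    rw [hZ, mem_bot] at this
    exact hv this
  have hna1 : na ≠ 1 := hne1 h hh
  obtain ⟨vc, hvc, hc1, hc2⟩ : ∃ v : G, v ≠ 1 ∧ cls v ≠ na ∧ cls v ≠ nb := by
    by_contra hall
    push Not at hall
    obtain ⟨p, hp, hpd⟩ := Nat.exists_prime_and_dvd hna1
    haveI : Fact p.Prime := ⟨hp⟩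
    obtain ⟨P⟩ : Nonempty (Sylow p G) := inferInstance
    obtain ⟨w, hwo, hw, -⟩ := exists_central_of_sylow (hpd.trans (hclsdvd h)) P
    by_cases e : cls w = na
    · exact hw (e ▸ hpd)
    · exact hw (hall w (ne_one_of_prime hp hwo) e ▸ hpd.trans hab)
  set nc := cls vc with hncdef
  have hmem : ∀ v : G, v ≠ 1 → cls v = na ∨ cls v = nb ∨ cls v = nc := by
    intro v hv
    by_contra hcon
    push Not at hcon
    obtain ⟨e1, e2, e3⟩ := hcon
    have hsub : ({cls v, na, nb, nc} : Set ℕ) ⊆ {m : ℕ | ∃ x : G, x ≠ 1 ∧ cls x = m} := by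
      rintro m (rfl | rfl | rfl | rfl)
      exacts [⟨v, hv, rfl⟩, ⟨h, hh, rfl⟩, ⟨g, hg, rfl⟩, ⟨vc, hvc, rfl⟩]
    have hfin : {m : ℕ | ∃ x : G, x ≠ 1 ∧ cls x = m}.Finite :=
      (Set.finite_range fun x : G => cls x).subset fun m ⟨x, _, hx⟩ => ⟨x, hx⟩
    have h4 := Set.ncard_le_ncard hsub hfin
    rw [Set.ncard_insert_of_notMem (by simp [e1, e2, e3]),
      Set.ncard_insert_of_notMem (by simp [hlt.ne, Ne.symm hc1]),
      Set.ncard_pair (Ne.symm hc2)] at h4
    omega
  have hnc1 : nc ≠ 1 := hne1 vc hvc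
  have hcop : na.Coprime nc := Nat.coprime_of_dvd fun p hp h1 h2 => by
    haveI : Fact p.Prime := ⟨hp⟩
    obtain ⟨P⟩ : Nonempty (Sylow p G) := inferInstance
    obtain ⟨w, hwo, hw, -⟩ := exists_central_of_sylow (h1.trans (hclsdvd h)) P
    rcases hmem w (ne_one_of_prime hp hwo) with e | e | e
    · exact hw (e ▸ h1)
    · exact hw (e ▸ h1.trans hab)
    · exact hw (e ▸ h2)
  have hnd1 : ¬ na ∣ nc := fun hd => hna1 (Nat.eq_one_of_dvd_coprimes hcop dvd_rfl hd)
  have hnd2 : ¬ nc ∣ na := fun hd => hnc1 (Nat.eq_one_of_dvd_coprimes hcop hd dvd_rfl)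
  have hnd3 : ¬ nb ∣ nc := fun hd => hnd1 (hab.trans hd)
  have hnd4 : ¬ nb ∣ na := fun hd => absurd
    (Nat.le_of_dvd (Nat.pos_of_ne_zero (cls_ne_zero h)) hd) (not_le.2 hlt)
  have up_a : ∀ v : G, v ≠ 1 → cls v ∣ na → cls v = na := fun v hv hd => by
    rcases hmem v hv with e | e | e
    · exact e
    · exact absurd (e ▸ hd) hnd4
    · exact absurd (e ▸ hd) hnd2
  have up_c : ∀ v : G, v ≠ 1 → cls v ∣ nc → cls v = nc := fun v hv hd => by
    rcases hmem v hv with e | e | e
    · exact absurd (e ▸ hd) hnd1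
    · exact absurd (e ▸ hd) hnd3
    · exact e
  have down_b : ∀ v : G, v ≠ 1 → nb ∣ cls v → cls v = nb := fun v hv hd => by
    rcases hmem v hv with e | e | e
    · exact absurd (e ▸ hd) hnd4
    · exact e
    · exact absurd (e ▸ hd) hnd3
  have down_a : ∀ v : G, v ≠ 1 → na ∣ cls v → cls v = na ∨ cls v = nb := fun v hv hd => by
    rcases hmem v hv with e | e | e
    · exact Or.inl e
    · exact Or.inr e
    · exact absurd (e ▸ hd) hnd1
  have down_c : ∀ v : G, v ≠ 1 → nc ∣ cls v → cls v = nc ∨ cls v = nb := fun v hv hd => by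
    rcases hmem v hv with e | e | e
    · exact absurd (e ▸ hd) hnd2
    · exact Or.inr e
    · exact Or.inl e
  have Ra : Role G na nb := ⟨hab, hlt, up_a, down_a, down_b, g, hg, rfl⟩
  obtain ⟨r₀, x₀, hx₀z, hr₀, -, hx₀⟩ := exists_prime_mem_zpowers hh
  have hx₀ne := ne_one_of_prime hr₀ hx₀
  have hx₀a : cls x₀ = na := up_a x₀ hx₀ne (cls_dvd (centralizer_le_of_mem_zpowers hx₀z))
  obtain ⟨p₀, v₀, hv₀z, hp₀, -, hv₀⟩ := exists_prime_mem_zpowers hvc
  have hv₀ne := ne_one_of_prime hp₀ hv₀
  have hv₀c : cls v₀ = nc := up_c v₀ hv₀ne (cls_dvd (centralizer_le_of_mem_zpowers hv₀z))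
  by_cases hcb : nc ∣ nb
  · -- both small sizes lie below `nb`
    have hltc : nc < nb := lt_of_le_of_ne (Nat.le_of_dvd (Nat.pos_of_ne_zero (cls_ne_zero g)) hcb) hc2
    have Rc : Role G nc nb := ⟨hcb, hltc, up_c, down_c, down_b, g, hg, rfl⟩
    obtain ⟨s, hs, hsd⟩ := Nat.exists_prime_and_dvd hnc1
    obtain ⟨p, hp, hpd⟩ := Nat.exists_prime_and_dvd hna1
    haveI : Fact s.Prime := ⟨hs⟩
    haveI : Fact p.Prime := ⟨hp⟩
    have hsa : ¬ s ∣ na := fun hd => hs.ne_one (Nat.eq_one_of_dvd_coprimes hcop hd hsd)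
    have hpc : ¬ p ∣ nc := fun hd => hp.ne_one (Nat.eq_one_of_dvd_coprimes hcop hpd hd)
    have h1 : ∀ t : ℕ, t.Prime → t ∣ nb → ¬ t ∣ na → t = s := fun t ht htb hta => by
      by_contra hts
      haveI : Fact t.Prime := ⟨ht⟩
      exact false_of_two_outside hZ Ra hx₀a hr₀ hx₀ hts htb hta (hsd.trans hcb) hsa
    have h2 : ∀ t : ℕ, t.Prime → t ∣ nb → ¬ t ∣ nc → t = p := fun t ht htb htc => by
      by_contra htp
      haveI : Fact t.Prime := ⟨ht⟩
      exact false_of_two_outside hZ Rc hv₀c hp₀ hv₀ htp htb htc (hpd.trans hab) hpc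
    have hnb : ∀ t : ℕ, t.Prime → t ∣ nb → t = p ∨ t = s := fun t ht htb => by
      by_cases hta : t ∣ na
      · exact Or.inl (h2 t ht htb fun hd => ht.ne_one (Nat.eq_one_of_dvd_coprimes hcop hta hd))
      · exact Or.inr (h1 t ht htb hta)
    refine hns (isSolvable_of_two_class_primes hZ hp hs fun v t ht htd => ?_)
    rcases eq_or_ne v 1 with rfl | hv
    · rw [cls_eq_one.2 (one_mem _), Nat.dvd_one] at htd
      exact absurd htd ht.ne_one
    rcases hmem v hv with e | e | e <;> rw [e] at htd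
    exacts [hnb t ht (htd.trans hab), hnb t ht htd, hnb t ht (htd.trans hcb)]
  -- commuting elements of class sizes `na` and `nc`
  have hcopNC : ∀ x v : G, x ≠ 1 → cls x = na → cls v = nc → Commute x v →
      ¬ (orderOf x).Coprime (orderOf v) := by
    intro x v hx ex ev hc hco
    have hboth := centralizer_mul_le_both hc hco
    have hne' := mul_ne_one_of_coprime hc hco hx
    have h1 : na ∣ cls (x * v) := ex ▸ cls_dvd hboth.1
    have h2 : nc ∣ cls (x * v) := ev ▸ cls_dvd hboth.2
    rcases hmem _ hne' with e | e | e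
    · exact hnd2 (e ▸ h2)
    · exact hcb (e ▸ h2)
    · exact hnd1 (e ▸ h1)
  have hNC : ∀ x v : G, x ≠ 1 → v ≠ 1 → cls x = na → cls v = nc → ¬ Commute x v := by
    intro x₁ v₁ hx₁ hv₁ ex₁ ev₁ hc₁
    obtain ⟨p, x, hxz, hp, -, hxo⟩ := exists_prime_mem_zpowers hx₁
    obtain ⟨p', v, hvz, hp', -, hvo⟩ := exists_prime_mem_zpowers hv₁
    have ex := up_a x (ne_one_of_prime hp hxo) (ex₁ ▸ cls_dvd (centralizer_le_of_mem_zpowers hxz))
    have ev := up_c v (ne_one_of_prime hp' hvo) (ev₁ ▸ cls_dvd (centralizer_le_of_mem_zpowers hvz))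
    have hc : Commute x v := by
      obtain ⟨i, rfl⟩ := hxz; obtain ⟨j, rfl⟩ := hvz
      exact hc₁.zpow_zpow i j
    have hpp : p = p' := by
      by_contra hne'
      exact hcopNC x v (ne_one_of_prime hp hxo) ex ev hc (coprime_of_ne hp hp' hne' hxo hvo)
    subst hpp
    haveI : Fact p.Prime := ⟨hp⟩
    have hx1 := ne_one_of_prime hp hxo
    have hv1 := ne_one_of_prime hp hvo
    -- `C(v)` is a `p`-group
    have hCv : ∀ t : ℕ, t.Prime → t ∣ Nat.card (centralizer ({v} : Set G)) → t = p := by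
      intro t ht htd
      by_contra htp
      obtain ⟨y, hy, hyo⟩ := exists_order_mem ht htd
      have hcy : Commute v y := (commute_iff.1 hy).symm
      have hco := coprime_of_ne hp ht (Ne.symm htp) hvo hyo
      have hboth := centralizer_mul_le_both hcy hco
      rcases down_c _ (mul_ne_one_of_prime hp hcy hvo hco) (ev ▸ cls_dvd hboth.1) with e | e
      · have hsub : centralizer ({v} : Set G) ≤ centralizer ({y} : Set G) :=
          (centralizer_eq_of_cls hboth.1 (e.trans ev.symm)).symm.le.trans hboth.2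
        exact hcopNC x y hx1 ex (up_c y (ne_one_of_prime ht hyo) (ev ▸ cls_dvd hsub))
          (commute_iff.1 (hsub (commute_iff.2 hc))) (coprime_of_ne hp ht (Ne.symm htp) hxo hyo)
      · refine hcb ?_
        rw [← e]; exact ev ▸ cls_dvd hboth.1
    obtain ⟨k, hk⟩ : ∃ k, Nat.card (centralizer ({v} : Set G)) = p ^ k :=
      ⟨_, Nat.eq_prime_pow_of_unique_prime_dvd Nat.card_pos.ne' fun {t} ht htd => hCv t ht htd⟩
    obtain ⟨a, ha⟩ : ∃ a, na = p ^ a := by
      obtain ⟨a, -, ha⟩ := (Nat.dvd_prime_pow hp).1 (hcop.dvd_of_dvd_mul_right (show na ∣ p ^ k * nc by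
        rw [← hk, ← ev, show Nat.card (centralizer ({v} : Set G)) * cls v = Nat.card G from
          (centralizer ({v} : Set G)).card_mul_index]
        exact hclsdvd h))
      exact ⟨a, ha⟩
    have hnoc : ∀ (t : ℕ) (u : G), t.Prime → t ≠ p → orderOf u = t → cls u ≠ nc := by
      intro t u ht htp hu e
      have hcc : Nat.card (centralizer ({u} : Set G)) = p ^ k := by
        rw [← hk]
        have h1 := (centralizer ({u} : Set G)).card_mul_index
        rw [← (centralizer ({v} : Set G)).card_mul_index,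
          show (centralizer ({u} : Set G)).index = nc from e,
          show (centralizer ({v} : Set G)).index = nc from ev] at h1
        exact Nat.eq_of_mul_eq_mul_right (Nat.pos_of_ne_zero (cls_ne_zero vc)) h1
      exact htp ((Nat.prime_dvd_prime_iff_eq ht hp).1 (ht.dvd_of_dvd_pow
        (hcc ▸ hu ▸ Subgroup.orderOf_dvd_natCard _ (self_mem u))))
    by_cases hq : ∃ q : ℕ, q.Prime ∧ q ∣ nb ∧ q ≠ p
    · obtain ⟨q, hq, hqb, hqp⟩ := hq
      haveI : Fact q.Prime := ⟨hq⟩
      have hqa : ¬ q ∣ na := fun hd => hqp ((Nat.prime_dvd_prime_iff_eq hq hp).1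
        (hq.dvd_of_dvd_pow (ha ▸ hd)))
      obtain ⟨z, hzo, hzC⟩ := exists_central hZ Ra ex hp hxo hqp hqb hqa
      obtain ⟨t, ht, htp, htq, htG⟩ : ∃ t : ℕ, t.Prime ∧ t ≠ p ∧ t ≠ q ∧ t ∣ Nat.card G := by
        by_contra hcon
        push Not at hcon
        refine hns (CfsgLib.Char.isSolvable_of_card_eq_pow_mul_pow hp hq
          (a := (Nat.card G).factorization p) (b := (Nat.card G).factorization q) ?_)
        refine (Nat.factorization_le_iff_dvd Nat.card_pos.ne'
          (mul_ne_zero (pow_ne_zero _ hp.ne_zero) (pow_ne_zero _ hq.ne_zero))).1 fun t => ?_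
        rw [Nat.factorization_mul (pow_ne_zero _ hp.ne_zero) (pow_ne_zero _ hq.ne_zero),
          hp.factorization_pow, hq.factorization_pow]
        rcases Nat.eq_zero_or_pos ((Nat.card G).factorization t) with h0 | hpos
        · omega
        by_cases htp : t = p
        · subst htp; simp
        by_cases htq : t = q
        · subst htq; simp
        exact absurd (Nat.dvd_of_factorization_pos hpos.ne')
          (hcon t (Nat.prime_of_mem_primeFactors (Finsupp.mem_support_iff.2 hpos.ne')) htp htq)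
      set H := centralizer ({x} : Set G) with hH
      have htH : t ∣ Nat.card H := by
        have h1 : t ∣ Nat.card H * p ^ a := by
          rw [← ha, ← ex, show Nat.card H * cls x = Nat.card G from H.card_mul_index]
          exact htG
        exact (ht.dvd_mul.1 h1).resolve_right
          fun hd => htp ((Nat.prime_dvd_prime_iff_eq ht hp).1 (ht.dvd_of_dvd_pow hd))
      haveI : Group.IsNilpotent H :=
        isNilpotent_of_equal (equal_of_two hZ Ra ex hp hq (Ne.symm hqp) ht htp htq htH hxo rfl hzo hzC)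
      obtain ⟨P⟩ : Nonempty (Sylow p G) := inferInstance
      refine hns (CfsgLib.Solvable.isSolvable_of_nilpotent_mul (A := (P : Subgroup G)) (B := H)
        P.2.isNilpotent inferInstance (CfsgLib.Solvable.mul_of_coprime_index ?_))
      rw [show H.index = na from ex, ha]
      exact ((hp.coprime_iff_not_dvd.2 P.not_dvd_index).symm).pow_right a
    · push Not at hq
      obtain ⟨b, hb⟩ : ∃ b, nb = p ^ b := ⟨_, Nat.eq_prime_pow_of_unique_prime_dvd
        (cls_ne_zero g) fun {t} ht htd => hq t ht htd⟩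
      obtain ⟨Rad, hRn, hRs, hRmax⟩ := CfsgLib.PrimePowerClass.exists_radical G
      haveI := hRn; haveI := hRs
      have hall : ∀ (t i : ℕ) (u : G), t.Prime → t ≠ p → orderOf u = t ^ i → u ∈ Rad := by
        intro t i u ht htp hu
        rcases eq_or_ne u 1 with rfl | hu1
        · exact one_mem _
        have hpc : ∃ e, cls u = p ^ e := by
          rcases hmem u hu1 with e | e | e
          · exact ⟨a, e.trans ha⟩
          · exact ⟨b, e.trans hb⟩
          · obtain ⟨s, u', hu'z, hs, hsd, hu'⟩ := exists_prime_mem_zpowers hu1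
            have hst : s = t := (Nat.prime_dvd_prime_iff_eq hs ht).1 (hs.dvd_of_dvd_pow (hu ▸ hsd))
            subst hst
            exact absurd (up_c u' (ne_one_of_prime hs hu') (e ▸ cls_dvd (centralizer_le_of_mem_zpowers hu'z)))
              (hnoc s u' hs htp hu')
        obtain ⟨e, he⟩ := hpc
        obtain ⟨L, hL1, hL2, huL⟩ := exists_solvable_normal he
        exact hRmax L hL1 hL2 huL
      have hPG : IsPGroup p (G ⧸ Rad) := by
        intro z
        obtain ⟨u, rfl⟩ := QuotientGroup.mk_surjective z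
        obtain ⟨a', b', hab', ha', hb', ⟨i, hi⟩, hbp⟩ := CfsgLib.Cores.exists_pow_mul_pow p u
        have hbR : b' ∈ Rad := mem_of_parts Rad b' fun t ht htd c _ ⟨j, hj⟩ =>
          hall t j c ht (fun e => ht.ne_one (Nat.eq_one_of_dvd_coprimes hbp htd (e ▸ dvd_rfl))) hj
        refine ⟨i, ?_⟩
        rw [hab', QuotientGroup.mk_mul, (QuotientGroup.eq_one_iff b').2 hbR, mul_one,
          ← QuotientGroup.mk_pow, ← hi, pow_orderOf_eq_one, QuotientGroup.mk_one]
      haveI := hPG.isNilpotent
      exact hns (solvable_of_ker_le_range Rad.subtype (QuotientGroup.mk' Rad) (by simp))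
  exact false_of_no_commute hZ hns hg rfl Ra hmem ⟨h, hh, rfl⟩ ⟨vc, hvc, rfl⟩ ⟨h, hh, rfl, hle⟩ hcop
    hnd2 up_c down_c hNC

end CfsgLib.ConjType
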