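import Cfsg.Agent.Lib.Char.TICoherence
import Cfsg.Agent.Lib.Char.PermChar
import Cfsg.Agent.Lib.Char.Burnside

/-!
A transitive simple group with an abelian regular subgroup of coprime order containing the centralisers
of its nonidentity elements: an element with class size the degree fixes one point.
-/

set_option autoImplicit false

open scoped ComplexConjugate

namespace CfsgLib.ConjType

open Cfsg CfsgLib.Char Module

variable {G : Type*} [Group G] [Fintype G]

/-- Burnside: a character of degree prime to a class size vanishes on that class, if it is not trivial on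
a subgroup contained in the commutator of every nontrivial normal subgroup. -/
theorem vanish (T : Subgroup G) (hT : ∀ L : Subgroup G, L.Normal → L ≠ ⊥ → T ≤ ⁅L, L⁆)
    (χ : Cfsg.IrrCharacter G) {n : ℕ} (hn : (χ : G → ℂ) 1 = n)
    (hnt : ∃ a ∈ T, (χ : G → ℂ) a ≠ n) {g : G} (hg : g ≠ 1)
    (hcop : n.Coprime (Subgroup.centralizer ({g} : Set G)).index) : (χ : G → ℂ) g = 0 := by
  classical
  obtain ⟨m, ρ, hirr, hρ⟩ := χ.2
  have hfr : finrank ℂ (Fin m → ℂ) = n := by
    have h := congrFun hρ 1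
    rw [Representation.char_one, hn] at h
    exact_mod_cast h
  rw [← congrFun hρ g]
  refine (zero_or_norm_eq ρ g (by rw [hfr]; exact hcop)).resolve_right fun hnorm => ?_
  obtain ⟨ω, hω⟩ := (norm_character_eq_iff ρ g).mp hnorm
  let S : Subgroup G :=
    { carrier := {x | ∀ y, ρ x * ρ y = ρ y * ρ x}
      one_mem' := fun y => by simp
      mul_mem' := fun {a b} ha hb y => by
        rw [map_mul, mul_assoc, hb y, ← mul_assoc, ha y, mul_assoc]
      inv_mem' := fun {a} ha y => by
        have h1 : ρ a⁻¹ * ρ a = 1 := by rw [← map_mul]; simp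
        have h2 : ρ a * ρ a⁻¹ = 1 := by rw [← map_mul]; simp
        calc ρ a⁻¹ * ρ y = ρ a⁻¹ * (ρ y * (ρ a * ρ a⁻¹)) := by rw [h2, mul_one]
          _ = ρ a⁻¹ * ρ a * (ρ y * ρ a⁻¹) := by rw [← mul_assoc (ρ y), ← ha y]; noncomm_ring
          _ = ρ y * ρ a⁻¹ := by rw [h1, one_mul] }
  have hS : S.Normal := ⟨fun x hx c y => by
    have h := hx (c⁻¹ * y * c)
    calc ρ (c * x * c⁻¹) * ρ y = ρ c * (ρ x * ρ (c⁻¹ * y * c)) * ρ c⁻¹ := by
          simp only [← map_mul]; group
      _ = ρ c * (ρ (c⁻¹ * y * c) * ρ x) * ρ c⁻¹ := by rw [h]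
      _ = ρ y * ρ (c * x * c⁻¹) := by simp only [← map_mul]; group⟩
  have hgS : g ∈ S := fun y => by
    rw [hω]
    exact LinearMap.ext fun v => by simp
  have hSne : S ≠ ⊥ := fun h => hg (by simpa [h] using hgS)
  have hker : ⁅S, S⁆ ≤ ρ.ker := Subgroup.commutator_le.2 fun a ha c _ => by
    rw [MonoidHom.mem_ker, commutatorElement_def, map_mul, map_mul, map_mul, ha c, mul_assoc (ρ c),
      ← map_mul ρ a, mul_inv_cancel, map_one, mul_one, ← map_mul, mul_inv_cancel, map_one]
  obtain ⟨a, ha, hne⟩ := hnt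
  refine hne ?_
  rw [← congrFun hρ a]
  show LinearMap.trace ℂ _ (ρ a) = _
  rw [MonoidHom.mem_ker.1 (hker (hT S hS hSne ha)), LinearMap.trace_one, hfr]

/-- If the centraliser of `x` has an abelian complement of coprime order containing the centralisers
of its nonidentity elements, then any element with class size the order of the complement
commutes with at most one conjugate of `x`. -/
theorem unique_of_complement {x y : G}
    (hy : y ≠ 1) (A : Subgroup G) (hA : ∀ L : Subgroup G, L.Normal → L ≠ ⊥ → A ≤ ⁅L, L⁆) (hab : ∀ a ∈ A, ∀ b ∈ A, a * b = b * a)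
    (hC : ∀ a ∈ A, a ≠ 1 → Subgroup.centralizer ({a} : Set G) ≤ A)
    (hidx : Nat.card A = (Subgroup.centralizer ({x} : Set G)).index)
    (hidy : Nat.card A = (Subgroup.centralizer ({y} : Set G)).index)
    (hcop : (Nat.card A).Coprime (Nat.card (Subgroup.centralizer ({x} : Set G))))
    (g g' : G) (hg : Commute (g * x * g⁻¹) y) (hg' : Commute (g' * x * g'⁻¹) y) :
    g * x * g⁻¹ = g' * x * g'⁻¹ := by
  classical
  set H := Subgroup.centralizer ({x} : Set G) with hH
  let π : G → ℂ := fun y => (Nat.card (MulAction.fixedBy (G ⧸ H) y) : ℂ)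
  have hπ1 : π 1 = (Nat.card A : ℂ) := by
    simp only [π, hidx, Subgroup.index]
    rw [MulAction.fixedBy_one_eq_univ, Nat.card_congr (Equiv.Set.univ _)]
  have hπA : ∀ a ∈ A, a ≠ 1 → π a = 0 := by
    intro a ha ha1
    simp only [π, Nat.cast_eq_zero]
    refine Nat.card_eq_zero.mpr (Or.inl ⟨?_⟩)
    rintro ⟨q, hq⟩
    obtain ⟨c, rfl⟩ := QuotientGroup.mk_surjective q
    have hmem : c⁻¹ * a * c ∈ H := by
      have : (a * c : G ⧸ H) = (c : G ⧸ H) := hq
      rw [eq_comm, QuotientGroup.eq] at this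
      simpa [mul_assoc] using this
    apply ha1
    have h1 : orderOf a ∣ Nat.card H := by
      have : orderOf (c⁻¹ * a * c) = orderOf a := by
        simpa using orderOf_injective (MulAut.conj c⁻¹).toMonoidHom (MulEquiv.injective _) a
      rw [← this]
      exact Subgroup.orderOf_dvd_natCard H hmem
    exact orderOf_eq_one_iff.mp (Nat.eq_one_of_dvd_coprimes hcop
      (Subgroup.orderOf_dvd_natCard A ha) h1)
  set N := Subgroup.normalizer (A : Set G) with hN
  letI : Fintype N := Fintype.ofFinite N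
  set K := A.subgroupOf N with hK
  haveI : K.Normal := Subgroup.normal_in_normalizer
  letI : Fintype K := Fintype.ofFinite K
  have hAN : A ≤ N := Subgroup.le_normalizer
  have hKcard : Nat.card K = Nat.card A := Nat.card_congr (Subgroup.subgroupOfEquivOfLe hAN).toEquiv
  have hC' : ∀ k ∈ K, k ≠ 1 → Subgroup.centralizer ({k} : Set N) ≤ K :=
    centralizer_subgroupOf_le A hC N
  have hKab : ∀ a b : K, a * b = b * a := fun a b => Subtype.ext (Subtype.ext
    (hab _ (Subgroup.mem_subgroupOf.mp a.2) _ (Subgroup.mem_subgroupOf.mp b.2)))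
  have hTI : ∀ c : G, c ∉ N → ∀ t ∈ (A : Set G), c * t * c⁻¹ ∈ (A : Set G) → t = 1 := by
    intro c hc t ht hct
    by_contra ht1
    apply hc
    have hcentA : ∀ a ∈ A, a ≠ 1 → Subgroup.centralizer ({a} : Set G) = A := fun a ha ha1 =>
      le_antisymm (hC a ha ha1) fun b hb => Subgroup.mem_centralizer_singleton_iff.mpr (hab b hb a ha)
    have e1 := hcentA t ht ht1
    have e2 := hcentA _ hct (by simpa using ht1)
    rw [hN, Subgroup.mem_normalizer_iff]
    intro y
    show y ∈ A ↔ c * y * c⁻¹ ∈ A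
    nth_rewrite 1 [← e1]
    nth_rewrite 1 [← e2]
    rw [Subgroup.mem_centralizer_singleton_iff, Subgroup.mem_centralizer_singleton_iff]
    constructor
    · intro h
      calc c * y * c⁻¹ * (c * t * c⁻¹) = c * (y * t) * c⁻¹ := by group
        _ = c * (t * y) * c⁻¹ := by rw [h]
        _ = c * t * c⁻¹ * (c * y * c⁻¹) := by group
    · intro h
      calc y * t = c⁻¹ * (c * y * c⁻¹ * (c * t * c⁻¹)) * c := by group
        _ = c⁻¹ * (c * t * c⁻¹ * (c * y * c⁻¹)) * c := by rw [h]
        _ = t * y := by group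
  have hπc : Cfsg.IsCharacter G π := isCharacter_permChar
  obtain ⟨m, hm, hmc⟩ := char_decomp hπc
  have hm1 : m irrOne = 1 := by
    have h := hmc irrOne
    have e : π = Cfsg.indFun H (fun _ => 1) := by
      have h0 := permChar_eq_indFun (G := G) (X := G ⧸ H) ((1 : G) : G ⧸ H)
      rw [MulAction.stabilizer_quotient] at h0
      exact h0
    letI : Fintype H := Fintype.ofFinite H
    rw [e, frobenius_reciprocity H _ (isClassFunction_of_isIrr irrOne.2)] at h
    have h2 : Cfsg.classInner (fun _ : H => (1 : ℂ)) (fun _ => 1) = 1 :=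
      classInner_irr_self isIrrCharacter_one
    have : ((m irrOne : ℕ) : ℂ) = 1 := by rw [← h]; exact h2
    exact_mod_cast this
  let res : Cfsg.IrrCharacter G → N → ℂ := fun χ y => (χ : G → ℂ) y
  have hres : ∀ χ, Cfsg.IsCharacter N (res χ) := fun χ => isCharacter_res N (isCharacter_of_isIrr χ.2)
  choose r hr hrv using fun χ => char_decomp (hres χ)
  have hπres : (fun y : N => π y) = ∑ χ, (m χ : ℂ) • res χ := by
    funext y
    show π y = _
    rw [congrFun hm y]
    simp [Finset.sum_apply, res]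
  have hNcard : (Nat.card N : ℂ) = (Nat.card A : ℂ) * (K.index : ℂ) := by
    rw [← K.card_mul_index, hKcard, Nat.cast_mul]
  have hdeg : ∀ ξ : Cfsg.IrrCharacter N, IsRelevant K (ξ : N → ℂ) →
      (ξ : N → ℂ) 1 = (K.index : ℂ) := by
    intro ξ hξ
    obtain ⟨θ, hθ, he⟩ := exists_eq_indFun_of_relevant K hC' ξ.2 hξ
    rw [he, indFun_one, irr_one_eq_one_of_comm hKab hθ, mul_one]
  -- every relevant character occurs once in the restricted permutation character
  have hone : ∀ ξ : Cfsg.IrrCharacter N, IsRelevant K (ξ : N → ℂ) → ∑ χ, m χ * r χ ξ = 1 := by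
    intro ξ hξ
    have h1 : Cfsg.classInner (fun y : N => π y) (ξ : N → ℂ) = 1 := by
      refine mul_left_cancel₀ (card_ne_zero' (G := N)) ?_
      rw [card_mul_classInner, Finset.sum_eq_single (1 : N) (fun y _ hy => ?_) (by simp), mul_one,
        Subgroup.coe_one, hπ1, hdeg ξ hξ, map_natCast, hNcard]
      by_cases hyK : y ∈ K
      · rw [hπA y (Subgroup.mem_subgroupOf.mp hyK) (fun e => hy (Subtype.ext e)), zero_mul]
      · rw [relevant_apply_eq_zero K hC' ξ.2 hξ hyK, map_zero, mul_zero]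
    rw [hπres, classInner_sum_left] at h1
    simp only [classInner_smul_left, hrv] at h1
    exact_mod_cast h1
  have hK1 : ∀ φ : N → ℂ, Cfsg.IsCharacter N φ →
      ∃ k : ℕ, Cfsg.classInner (fun y : K => φ y) (fun _ => 1) = k := fun φ hφ =>
    classInner_char_nat (isCharacter_res K hφ) isCharacter_one
  choose t ht using fun χ => hK1 _ (hres χ)
  have hsum : ∑ χ, m χ * t χ = 1 := by
    have h1 : Cfsg.classInner (fun y : K => π ((y : N) : G)) (fun _ => 1) = 1 := by
      rw [classInner_one_right, Finset.sum_eq_single (1 : K) (fun y _ hy => ?_) (by simp)]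
      · simp only [Subgroup.coe_one]
        rw [hπ1, hKcard, inv_mul_cancel₀ (by exact_mod_cast Nat.card_pos.ne')]
      · exact hπA _ (Subgroup.mem_subgroupOf.mp y.2) fun e => hy (Subtype.ext (Subtype.ext e))
    have e : (fun y : K => π ((y : N) : G)) = ∑ χ, (m χ : ℂ) • (fun y : K => res χ (y : N)) := by
      funext y
      rw [show π ((y : N) : G) = _ from congrFun hπres (y : N)]
      simp [Finset.sum_apply]
    rw [e, classInner_sum_left] at h1
    simp only [classInner_smul_left, ht] at h1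
    exact_mod_cast h1
  have ht1 : t irrOne = 1 := by
    have h := ht irrOne
    have e : Cfsg.classInner (fun _ : K => (1 : ℂ)) (fun _ => 1) = 1 :=
      classInner_irr_self isIrrCharacter_one
    have : ((t irrOne : ℕ) : ℂ) = 1 := by rw [← h]; exact e
    exact_mod_cast this
  have ht0' : ∀ χ, χ ≠ irrOne → m χ ≠ 0 → t χ = 0 := by
    intro χ hχ1 hmχ
    rw [← Finset.add_sum_erase _ _ (Finset.mem_univ (irrOne : Cfsg.IrrCharacter G)), hm1, ht1] at hsum
    have := Finset.single_le_sum (f := fun c => m c * t c) (fun _ _ => Nat.zero_le _)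
      (Finset.mem_erase.mpr ⟨hχ1, Finset.mem_univ χ⟩)
    have h0 : m χ * t χ = 0 := by (try beta_reduce at this); omega
    exact (mul_eq_zero.mp h0).resolve_left hmχ
  -- the constituents other than the principal one are sums of relevant characters
  have hnr : ∀ χ, χ ≠ irrOne → m χ ≠ 0 → ∀ ξ : Cfsg.IrrCharacter N,
      ¬ IsRelevant K (ξ : N → ℂ) → r χ ξ = 0 := by
    intro χ hχ1 hmχ ξ hξ
    have ht0 := ht0' χ hχ1 hmχ
    choose u hu using fun η : Cfsg.IrrCharacter N => hK1 _ (isCharacter_of_isIrr η.2)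
    have hdec : ∑ η, r χ η * u η = t χ := by
      have e : (fun y : K => res χ (y : N)) =
          ∑ η, (r χ η : ℂ) • (fun y : K => (η : N → ℂ) (y : N)) := by
        funext y
        rw [show res χ (y : N) = _ from congrFun (hr χ) (y : N)]
        simp [Finset.sum_apply]
      have h := ht χ
      rw [e, classInner_sum_left] at h
      simp only [classInner_smul_left, hu] at h
      exact_mod_cast h
    rw [ht0, Finset.sum_eq_zero_iff] at hdec
    refine (mul_eq_zero.mp (hdec ξ (Finset.mem_univ ξ))).resolve_right fun h0 => ?_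
    have hconst : (fun y : K => (ξ : N → ℂ) y) = fun _ => (ξ : N → ℂ) 1 :=
      funext fun y => (not_relevant_iff K _).mp hξ y y.2
    have h := hu ξ
    rw [hconst, h0, Nat.cast_zero, classInner_one_right, Finset.sum_const, Finset.card_univ,
      nsmul_eq_mul, ← Nat.card_eq_fintype_card, ← mul_assoc,
      inv_mul_cancel₀ (by exact_mod_cast Nat.card_pos.ne'), one_mul] at h
    exact irr_one_ne_zero ξ.2 h
  choose d hd using fun χ : Cfsg.IrrCharacter G => exists_degree (isCharacter_of_isIrr χ.2)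
  have hd0 : ∀ χ, 0 < d χ := fun χ => Nat.pos_of_ne_zero fun e =>
    irr_one_ne_zero χ.2 (by rw [hd, e, Nat.cast_zero])
  let Rel := Finset.univ.filter fun ξ : Cfsg.IrrCharacter N => IsRelevant K (ξ : N → ℂ)
  have hdχ : ∀ χ, χ ≠ irrOne → m χ ≠ 0 → d χ = K.index * ∑ ξ ∈ Rel, r χ ξ := by
    intro χ h1 h2
    have e := congrFun (hr χ) 1
    simp only [Finset.sum_apply, Pi.smul_apply, smul_eq_mul, res, Subgroup.coe_one, hd] at e
    rw [← Finset.sum_subset (Finset.subset_univ Rel)
      (fun η _ hη => by rw [hnr χ h1 h2 η (by simpa [Rel] using hη)]; simp),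
      Finset.sum_congr rfl fun η hη => by rw [hdeg η (by simpa [Rel] using hη)],
      ← Finset.sum_mul] at e
    have : (d χ : ℂ) = ((K.index * ∑ ξ ∈ Rel, r χ ξ : ℕ) : ℂ) := by
      rw [e]; push_cast; ring
    exact_mod_cast this
  have htotal : Nat.card A = 1 + ∑ χ ∈ Finset.univ.erase irrOne, m χ * d χ := by
    have e := congrFun hm 1
    rw [hπ1] at e
    simp only [Finset.sum_apply, Pi.smul_apply, smul_eq_mul, hd] at e
    rw [← Finset.add_sum_erase _ _ (Finset.mem_univ (irrOne : Cfsg.IrrCharacter G)), hm1] at e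
    have hd1 : d irrOne = 1 := by
      have := hd irrOne
      rw [irrOne_apply] at this
      exact_mod_cast this.symm
    rw [hd1] at e
    exact_mod_cast (by rw [e]; simp : (Nat.card A : ℂ) =
      ((1 + ∑ χ ∈ Finset.univ.erase irrOne, m χ * d χ : ℕ) : ℂ))
  have hKcop : (K.index).Coprime (Nat.card A) := by
    rw [htotal, Finset.sum_congr rfl (fun χ hχ => show m χ * d χ =
      K.index * (m χ * ∑ ξ ∈ Rel, r χ ξ) from ?_), ← Finset.mul_sum]
    · exact (Nat.coprime_add_mul_left_right _ _ _).mpr (Nat.coprime_one_right _)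
    · by_cases h : m χ = 0
      · simp [h]
      · rw [hdχ χ (Finset.ne_of_mem_erase hχ) h]; ring
  -- degrees of the constituents are prime to the class size
  have hgood : ∀ χ, χ ≠ irrOne → m χ ≠ 0 → (d χ).Coprime (Nat.card A) := by
    intro χ h1 h2
    by_cases hsingle : ∀ χ', χ' ≠ irrOne → m χ' ≠ 0 → χ' = χ
    · rw [Finset.sum_eq_single χ (fun b hb hbne => by
        by_contra h0
        exact hbne (hsingle b (Finset.ne_of_mem_erase hb) fun e => h0 (by rw [e, zero_mul])))
        (fun h => absurd (Finset.mem_erase.mpr ⟨h1, Finset.mem_univ χ⟩) h)] at htotal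
      rw [htotal]
      exact (Nat.coprime_add_mul_right_right _ _ _).mpr (Nat.coprime_one_right _)
    push Not at hsingle
    obtain ⟨χ', h1', h2', hne'⟩ := hsingle
    have hle : ∀ c, m c ≠ 0 → ∀ ξ : Cfsg.IrrCharacter N, IsRelevant K (ξ : N → ℂ) → r c ξ ≤ 1 ∧
        (r c ξ = 1 → ∀ c', c' ≠ c → m c' ≠ 0 → r c' ξ = 0) := by
      intro c hc ξ hξ
      have h := hone ξ hξ
      rw [← Finset.add_sum_erase _ _ (Finset.mem_univ c)] at h
      have hmle : r c ξ ≤ m c * r c ξ := Nat.le_mul_of_pos_left _ (Nat.pos_of_ne_zero hc)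
      refine ⟨by omega, fun h1c c' hne hc' => ?_⟩
      have := Finset.single_le_sum (f := fun b => m b * r b ξ) (fun _ _ => Nat.zero_le _)
        (Finset.mem_erase.mpr ⟨hne, Finset.mem_univ c'⟩)
      have h0 : m c' * r c' ξ = 0 := by (try beta_reduce at this); omega
      exact (mul_eq_zero.mp h0).resolve_left hc'
    have hex : ∀ c, c ≠ irrOne → m c ≠ 0 → ∃ ξ ∈ Rel, r c ξ = 1 := by
      intro c hc1 hc2
      have hpos : 0 < K.index * ∑ ξ ∈ Rel, r c ξ := hdχ c hc1 hc2 ▸ hd0 c
      obtain ⟨ξ, hξ, hξ0⟩ := Finset.exists_ne_zero_of_sum_ne_zero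
        (Nat.pos_of_mul_pos_left hpos).ne'
      exact ⟨ξ, hξ, le_antisymm (hle c hc2 ξ (Finset.mem_filter.mp hξ).2).1 (Nat.pos_of_ne_zero hξ0)⟩
    obtain ⟨ξ₁, hξ₁, hr₁⟩ := hex χ h1 h2
    obtain ⟨ξ₃, hξ₃, hr₃⟩ := hex χ' h1' h2'
    suffices hR : ∑ ξ ∈ Rel, r χ ξ = 1 by
      rw [hdχ χ h1 h2, hR, mul_one]; exact hKcop
    rw [Finset.sum_eq_single ξ₁ (fun ξ₂ hξ₂ hne2 => ?_) (fun h => absurd hξ₁ h), hr₁]
    by_contra hr0
    have hr₂ : r χ ξ₂ = 1 := le_antisymm (hle χ h2 ξ₂ (Finset.mem_filter.mp hξ₂).2).1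
      (Nat.pos_of_ne_zero hr0)
    have hrel := fun ξ (hξ : ξ ∈ Rel) => (Finset.mem_filter.mp hξ).2
    have h31 : r χ ξ₃ = 0 := (hle χ' h2' ξ₃ (hrel _ hξ₃)).2 hr₃ χ hne'.symm h2
    have hz : ∀ ξ ∈ Rel, r χ ξ = 1 → r χ' ξ = 0 := fun ξ hξ hh =>
      (hle χ h2 ξ (hrel _ hξ)).2 hh χ' hne' h2'
    let τ : Cfsg.IrrCharacter N → Cfsg.IrrCharacter N → G → ℂ := fun a b =>
      Cfsg.indFun N ((a : N → ℂ) - (b : N → ℂ))
    have hcl : ∀ a b : Cfsg.IrrCharacter N, Cfsg.IsClassFunction N ((a : N → ℂ) - (b : N → ℂ)) :=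
      fun a b => isClassFunction_sub (isClassFunction_of_isIrr a.2) (isClassFunction_of_isIrr b.2)
    have hz1 : ∀ a ∈ Rel, ∀ b ∈ Rel, ((a : N → ℂ) - (b : N → ℂ)) 1 = 0 := fun a ha b hb => by
      rw [Pi.sub_apply, hdeg a (hrel a ha), hdeg b (hrel b hb), sub_self]
    have hnorm : ∀ a ∈ Rel, ∀ b ∈ Rel, a ≠ b → Cfsg.classInner (τ a b) (τ a b) = 2 := by
      intro a ha b hb hab'
      have hT : ∀ y : N, (y : G) ∉ (A : Set G) → ((a : N → ℂ) - (b : N → ℂ)) y = 0 := fun y hy => by
        rw [Pi.sub_apply, relevant_apply_eq_zero K hC' a.2 (hrel a ha) hy,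
          relevant_apply_eq_zero K hC' b.2 (hrel b hb) hy, sub_self]
      simp only [τ]
      rw [classInner_indFun_of_TI N (A : Set G) hTI (hcl a b) hT hT (hz1 a ha b hb),
        classInner_sub_left, classInner_sub_right, classInner_sub_right, classInner_irr_self a.2,
        classInner_irr_self b.2, classInner_irr_ne a.2 b.2 fun e => hab' (Subtype.ext e),
        classInner_irr_ne b.2 a.2 fun e => hab' (Subtype.ext e.symm)]
      norm_num
    have hin : ∀ (a b : Cfsg.IrrCharacter N) (c : Cfsg.IrrCharacter G), Cfsg.classInner (τ a b) (c : G → ℂ) = (r c a : ℂ) - (r c b : ℂ) := by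
      intro a b c
      simp only [τ]
      rw [frobenius_reciprocity N _ (isClassFunction_of_isIrr c.2), classInner_sub_left]
      have e : ∀ a : Cfsg.IrrCharacter N, Cfsg.classInner (a : N → ℂ) (res c) = (r c a : ℂ) := by
        intro a
        rw [← classInner_conj_symm (res c), hrv c a, map_natCast]
      exact congrArg₂ (· - ·) (e a) (e b)
    have hshape : ∀ a ∈ Rel, r χ a = 1 → a ≠ ξ₃ → τ a ξ₃ = (χ : G → ℂ) - (χ' : G → ℂ) := by
      intro a ha hra hne3
      have hgen : Cfsg.IsGeneralizedCharacter G (τ a ξ₃) :=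
        isGen_indFun N (isGen_sub (isGen_of_irr a.2) (isGen_of_irr ξ₃.2))
      obtain ⟨p, q, hpq, hτ⟩ := gen_norm_two hgen (hnorm a ha ξ₃ hξ₃ hne3)
        (by simp only [τ, indFun_one, hz1 a ha ξ₃ hξ₃, mul_zero])
      have e1 := hin a ξ₃ χ
      have e2 := hin a ξ₃ χ'
      rw [hra, h31, hτ, classInner_sub_left, classInner_irr p.2 χ.2, classInner_irr q.2 χ.2] at e1
      rw [hz a ha hra, hr₃, hτ, classInner_sub_left, classInner_irr p.2 χ'.2,
        classInner_irr q.2 χ'.2] at e2
      have hp : (p : G → ℂ) = χ := by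
        by_contra h
        rw [if_neg h] at e1
        split_ifs at e1 <;> norm_num at e1
      have hq : (q : G → ℂ) = χ' := by
        by_contra h
        rw [if_neg h] at e2
        split_ifs at e2 <;> norm_num at e2
      rw [hτ, hp, hq]
    have hne13 : ξ₁ ≠ ξ₃ := fun e => by rw [e, h31] at hr₁; exact zero_ne_one hr₁
    have hne23 : ξ₂ ≠ ξ₃ := fun e => hr0 (by rw [e, h31])
    have hzero : τ ξ₂ ξ₁ = 0 := by
      have e : ((ξ₂ : N → ℂ) - (ξ₁ : N → ℂ)) =
          ((ξ₂ : N → ℂ) - (ξ₃ : N → ℂ)) - ((ξ₁ : N → ℂ) - (ξ₃ : N → ℂ)) := by abel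
      have h2e : τ ξ₂ ξ₁ = τ ξ₂ ξ₃ - τ ξ₁ ξ₃ := by simp only [τ]; rw [e, indFun_sub]
      rw [h2e, hshape _ hξ₂ hr₂ hne23, hshape _ hξ₁ hr₁ hne13, sub_self]
    have := hnorm ξ₂ hξ₂ ξ₁ hξ₁ hne2
    rw [hzero, classInner_zero_left] at this
    norm_num at this
  -- hence the permutation character is one at `y`
  have hπy : π y = 1 := by
    rw [hm]
    simp only [Finset.sum_apply, Pi.smul_apply, smul_eq_mul]
    rw [Finset.sum_eq_single (irrOne : Cfsg.IrrCharacter G) (fun χ _ hχ => ?_) (by simp), hm1]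
    · simp [irrOne_apply]
    by_cases h : m χ = 0
    · simp [h]
    rw [vanish A hA χ (hd χ) ?_ hy (hidy ▸ hgood χ hχ h), mul_zero]
    by_contra hall
    push Not at hall
    have hv := ht χ
    rw [ht0' χ hχ h, classInner_one_right, Finset.sum_congr rfl (g := fun _ : K => (d χ : ℂ))
      (fun z _ => hall ((z : N) : G) (Subgroup.mem_subgroupOf.mp z.2))] at hv
    rw [Finset.sum_const, Finset.card_univ, nsmul_eq_mul, ← Nat.card_eq_fintype_card, ← mul_assoc,
      inv_mul_cancel₀ (by exact_mod_cast Nat.card_pos.ne'), one_mul, Nat.cast_zero] at hv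
    exact (hd0 χ).ne' (by exact_mod_cast hv)
  have hcard : Nat.card (MulAction.fixedBy (G ⧸ H) y) = 1 := by
    simp only [π] at hπy; exact_mod_cast hπy
  obtain ⟨hsub, -⟩ := Nat.card_eq_one_iff_unique.mp hcard
  have hfix : ∀ c : G, Commute (c * x * c⁻¹) y → ((c : G ⧸ H)) ∈ MulAction.fixedBy (G ⧸ H) y := by
    intro c hc
    show ((y * c : G) : G ⧸ H) = (c : G ⧸ H)
    rw [eq_comm, QuotientGroup.eq, hH, Subgroup.mem_centralizer_singleton_iff]
    calc c⁻¹ * (y * c) * x = c⁻¹ * (y * (c * x * c⁻¹)) * c := by group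
      _ = c⁻¹ * ((c * x * c⁻¹) * y) * c := by rw [hc.eq]
      _ = x * (c⁻¹ * (y * c)) := by group
  have e := congrArg Subtype.val (@Subsingleton.elim _ hsub ⟨_, hfix g hg⟩ ⟨_, hfix g' hg'⟩)
  rw [QuotientGroup.eq, hH, Subgroup.mem_centralizer_singleton_iff] at e
  calc g * x * g⁻¹ = g * (x * (g⁻¹ * g')) * g'⁻¹ := by group
    _ = g * (g⁻¹ * g' * x) * g'⁻¹ := by rw [e]
    _ = g' * x * g'⁻¹ := by group

end CfsgLib.ConjType
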