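import Cfsg.Agent.Lib.ConjType.Inclusion

/-!
In a simple group with at most three nontrivial class sizes no centraliser of a nonidentity element
is properly contained in another one.
-/

set_option autoImplicit false

namespace CfsgLib.ConjType

open Subgroup CfsgLib.FGS.TwoLargest

variable {G : Type*} [Group G] [Finite G] [IsSimpleGroup G]

/-- With at most three nontrivial class sizes, centralisers of nonidentity elements are not properly
contained in one another. -/
theorem no_inclusion (hna : ¬ ∀ a b : G, a * b = b * a)
    (h3 : {m : ℕ | ∃ x : G, x ≠ 1 ∧ cls x = m}.ncard ≤ 3) {g h : G} (hg : g ≠ 1)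
    (hh : h ≠ 1) (hle : centralizer ({g} : Set G) ≤ centralizer ({h} : Set G)) :
    centralizer ({g} : Set G) = centralizer ({h} : Set G) :=
  by_contra fun hne => hna (IsSimpleGroup.comm_iff_isSolvable.2
    (isSolvable_of_inclusion (center_eq_bot' hna) h3 hg hh hle hne))

end CfsgLib.ConjType
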