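import Cfsg.Agent.Lib.FGS.CoprimeLargestMain
import Cfsg.Agent.Lib.FGS.EqualClasses
import Cfsg.Agent.Lib.FGS.Covering
import Cfsg.Agent.Lib.Char.PrimePowerClass
import Cfsg.Agent.Lib.Char.Burnside
import Cfsg.Agent.Lib.Local.AB
import Cfsg.Agent.Lib.Solvable.Fitting
import Cfsg.Agent.Lib.Cores.Fitting

/-!
Groups with restricted class sizes of elements of prime power order.
-/

set_option autoImplicit false
set_option linter.style.haveILetI false
set_option linter.unusedSectionVars false

namespace CfsgLib.ConjType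

open Subgroup CfsgLib.FGS.TwoLargest

variable {G : Type*} [Group G] [Finite G]

/-- Pairing: if the noncentral elements of prime power order have class size `n` and commuting ones of
coprime orders share their centralisers, all noncentral classes have size `n`. -/
theorem equal_of_primary {n : ℕ}
    (hn : ∀ (p k : ℕ) (y : G), p.Prime → orderOf y = p ^ k → y ∉ center G → cls y = n)
    (hpair : ∀ (p q k l : ℕ) (y z : G), p.Prime → q.Prime → p ≠ q → orderOf y = p ^ k →
      orderOf z = q ^ l → y ∉ center G → z ∉ center G → Commute y z →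
      centralizer ({y} : Set G) = centralizer ({z} : Set G)) :
    CfsgLib.FGS.EqualClasses.Equal G n := by
  intro h hh
  by_contra hne
  refine hh (mem_of_parts _ h fun p hp _ a' ha' ⟨k', hk'⟩ => ?_)
  by_contra ha'c
  haveI : Fact p.Prime := ⟨hp⟩
  obtain ⟨a, b, hab, ha, hb, ⟨k, hk⟩, hbp⟩ := CfsgLib.Cores.exists_pow_mul_pow p h
  have hcomm : Commute a b := by
    obtain ⟨i, rfl⟩ := ha; obtain ⟨j, rfl⟩ := hb
    exact (Commute.refl h).zpow_zpow i j
  have hac : a ∉ center G := by
    intro hac
    obtain ⟨i, rfl⟩ := ha'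
    apply ha'c
    have hbi : b ^ i = 1 := by
      have hmem : b ^ i ∈ zpowers b := zpow_mem (mem_zpowers b) i
      have h1 : (orderOf (b ^ i)).Coprime p := hbp.coprime_dvd_left (orderOf_dvd_of_mem_zpowers hmem)
      have h2 : orderOf (b ^ i) ∣ p ^ (k + k') := by
        refine orderOf_dvd_of_pow_eq_one ?_
        have e : b ^ i = (a ^ i)⁻¹ * h ^ i := by rw [hab, hcomm.mul_zpow]; group
        have hc : Commute (a ^ i)⁻¹ (h ^ i) := by
          obtain ⟨j, rfl⟩ := ha
          exact (((Commute.refl h).zpow_zpow j 1).zpow_zpow i i).inv_left |> fun c => by simpa using c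
        rw [e, hc.mul_pow]
        have e1 : (a ^ i) ^ p ^ k = 1 := by
          rw [← hk, ← zpow_natCast, ← zpow_mul, mul_comm, zpow_mul, zpow_natCast, pow_orderOf_eq_one,
            one_zpow]
        have e2 : (h ^ i) ^ p ^ k' = 1 := by rw [← hk']; exact pow_orderOf_eq_one _
        rw [inv_pow, pow_add, pow_mul, e1, one_pow, inv_one, one_mul, mul_comm, pow_mul, e2, one_pow]
      exact orderOf_eq_one_iff.1 (Nat.eq_one_of_dvd_coprimes (h1.pow_right (k + k')) dvd_rfl h2)
    show h ^ i ∈ center G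
    rw [hab, hcomm.mul_zpow, hbi, mul_one]
    exact zpow_mem hac i
  apply hne
  have hCa : centralizer ({h} : Set G) = centralizer ({a} : Set G) := by
    refine le_antisymm (centralizer_le_of_mem_zpowers ha) fun z hz => ?_
    have hzb : b ∈ centralizer ({z} : Set G) := by
      refine mem_of_parts _ b fun r hr hrd e he ⟨l, hl⟩ => ?_
      by_cases hec : e ∈ center G
      · exact commute_iff.2 (mem_center_iff.1 hec z).symm
      have hrp : p ≠ r := fun e' => hr.ne_one
        (Nat.eq_one_of_dvd_coprimes hbp hrd (e' ▸ dvd_rfl))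
      have hae : Commute a e := by obtain ⟨j, rfl⟩ := he; exact hcomm.zpow_right j
      exact commute_iff.2 (commute_iff.1 (hpair p r k l a e hp hr hrp hk hl hac hec hae ▸ hz)).symm
    rw [hab]
    exact commute_iff.2 ((commute_iff.1 hz).mul_right (commute_iff.1 hzb).symm)
  show (centralizer ({h} : Set G)).index = n
  rw [hCa]
  exact hn p k a hp hk hac

/-- Groups with one noncentral class size are nilpotent (Itô). -/
theorem isNilpotent_of_equal {n : ℕ} (h : CfsgLib.FGS.EqualClasses.Equal G n) : Group.IsNilpotent G := by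
  by_cases hex : ∃ x : G, x ∉ center G
  swap
  · push Not at hex
    letI : CommGroup G := { (inferInstance : Group G) with mul_comm := fun a b => mem_center_iff.1 (hex b) a }
    infer_instance
  obtain ⟨x, hx⟩ := hex
  have hn1 : n ≠ 1 := fun e => hx (cls_eq_one.1 ((h x hx).trans e))
  obtain ⟨q, hq, hqd⟩ := Nat.exists_prime_and_dvd hn1
  haveI : Fact q.Prime := ⟨hq⟩
  have hpq : IsPGroup q (G ⧸ center G) := by
    intro z
    obtain ⟨g, rfl⟩ := QuotientGroup.mk_surjective z
    obtain ⟨a, b, hab, ha, hb, ⟨k, hk⟩, hbq⟩ := CfsgLib.Cores.exists_pow_mul_pow q g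
    have hbc : b ∈ center G := by
      refine mem_of_parts _ b fun r hr hrd e _ ⟨l, hl⟩ => ?_
      haveI : Fact r.Prime := ⟨hr⟩
      obtain ⟨R, hR⟩ := (IsPGroup.of_card (n := l) (by rw [Nat.card_zpowers, hl]) :
        IsPGroup r (zpowers e)).exists_le_sylow
      refine CfsgLib.FGS.EqualClasses.sylow_central h R (fun hrn => ?_) (hR (mem_zpowers e))
      have hrq := CfsgLib.FGS.EqualClasses.prime_unique h ⟨x, hx⟩ hr hq hrn hqd
      exact hr.ne_one (Nat.eq_one_of_dvd_coprimes hbq hrd (hrq ▸ dvd_rfl))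
    refine ⟨k, ?_⟩
    rw [← QuotientGroup.mk_pow, QuotientGroup.eq_one_iff, hab]
    have hcomm : Commute a b := (mem_center_iff.1 hbc a)
    rw [hcomm.mul_pow, ← hk, pow_orderOf_eq_one, one_mul]
    exact pow_mem hbc _
  exact Group.of_quotient_center_nilpotent hpq.isNilpotent

/-- An element of prime power order commuting with all its conjugates lies in the `p`-core. -/
theorem mem_pCore_of_commute_conj {p : ℕ} [Fact p.Prime] {y : G} (hy : ∃ k, orderOf y = p ^ k)
    (h : ∀ g g' : G, Commute (g * y * g⁻¹) (g' * y * g'⁻¹)) : y ∈ Cfsg.pCore p G := by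
  obtain ⟨k, hk⟩ := hy
  set N := normalClosure ({y} : Set G)
  have hcomm : ∀ a ∈ N, ∀ b ∈ N, Commute a b := by
    have hgen : ∀ u ∈ Group.conjugatesOfSet ({y} : Set G), ∀ v ∈ Group.conjugatesOfSet ({y} : Set G),
        Commute u v := by
      intro u hu v hv
      simp only [Group.mem_conjugatesOfSet_iff, Set.mem_singleton_iff, exists_eq_left] at hu hv
      obtain ⟨g, rfl⟩ := isConj_iff.1 hu
      obtain ⟨g', rfl⟩ := isConj_iff.1 hv
      exact h g g'
    have h1 : ∀ u ∈ Group.conjugatesOfSet ({y} : Set G), N ≤ centralizer ({u} : Set G) := fun u hu =>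
      (closure_le _).2 fun v hv => commute_iff.2 (hgen v hv u hu)
    intro a ha b hb
    have h2 : N ≤ centralizer ({a} : Set G) := (closure_le _).2 fun v hv =>
      commute_iff.2 (commute_iff.1 (h1 v hv ha)).symm
    exact (commute_iff.1 (h2 hb)).symm
  have hpow : ∀ a ∈ N, a ^ p ^ k = 1 := by
    intro a ha
    induction ha using closure_induction with
    | mem u hu =>
      simp only [Group.mem_conjugatesOfSet_iff, Set.mem_singleton_iff, exists_eq_left] at hu
      obtain ⟨g, rfl⟩ := isConj_iff.1 hu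
      rw [conj_pow, ← hk, pow_orderOf_eq_one, mul_one, mul_inv_cancel]
    | one => exact one_pow _
    | mul a b ha hb e1 e2 => rw [(hcomm a ha b hb).mul_pow, e1, e2, one_mul]
    | inv a _ e => rw [inv_pow, e, inv_one]
  haveI : N.Normal := normalClosure_normal
  exact CfsgLib.Cores.le_pCore (N := N) (fun a => ⟨k, Subtype.ext (hpow a a.2)⟩)
    (subset_normalClosure rfl)

/-- An element of prime power class size lies in a solvable normal subgroup. -/
theorem exists_solvable_normal {p a : ℕ} [Fact p.Prime] {x : G} (hx : cls x = p ^ a) :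
    ∃ L : Subgroup G, L.Normal ∧ Group.IsSolvable L ∧ x ∈ L := by
  haveI : (Cfsg.pCore p G).Characteristic := CfsgLib.Cores.pCore_characteristic p
  set P := Cfsg.pCore p G
  set π := QuotientGroup.mk' P
  obtain ⟨b, -, hb⟩ := (Nat.dvd_prime_pow Fact.out).1 (((Subgroup.index_dvd_of_le
    (K := centralizer ({π x} : Set (G ⧸ P))) (H := (centralizer ({x} : Set G)).map π) (by
      rintro _ ⟨c, hc, rfl⟩
      exact commute_iff.2 ((commute_iff.1 hc).map π))).trans
    (Subgroup.index_map_dvd _ (QuotientGroup.mk'_surjective _))).trans hx.dvd)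
  have hcom := CfsgLib.PrimePowerClass.commute_conj_of_pCore_eq_bot (π x) ⟨b, hb⟩
    (CfsgLib.Cores.pCore_quotient_self p)
  set N := normalClosure ({π x} : Set (G ⧸ P))
  have hN : ∀ a ∈ N, ∀ b ∈ N, a * b = b * a := by
    have h1 : ∀ u ∈ Group.conjugatesOfSet ({π x} : Set (G ⧸ P)), N ≤ centralizer ({u} : Set _) := by
      intro u hu
      refine (closure_le _).2 fun v hv => commute_iff.2 ?_
      simp only [Group.mem_conjugatesOfSet_iff, Set.mem_singleton_iff, exists_eq_left] at hu hv
      obtain ⟨g, rfl⟩ := isConj_iff.1 hu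
      obtain ⟨g', rfl⟩ := isConj_iff.1 hv
      exact hcom g' g
    intro a ha b hb
    have h2 : N ≤ centralizer ({a} : Set (G ⧸ P)) := (closure_le _).2 fun v hv =>
      commute_iff.2 (commute_iff.1 (h1 v hv ha)).symm
    exact (commute_iff.1 (h2 hb)).symm.eq
  haveI : Group.IsSolvable N := by
    letI : CommGroup N :=
      { (inferInstance : Group N) with mul_comm := fun u v => Subtype.ext (hN u u.2 v v.2) }
    infer_instance
  refine ⟨N.comap π, Subgroup.normalClosure_normal.comap π, ?_,
    mem_comap.2 (subset_normalClosure rfl)⟩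
  let f : N.comap π →* N := (π.comp (N.comap π).subtype).codRestrict N fun z => z.2
  haveI : Group.IsSolvable f.ker := by
    haveI := (CfsgLib.Cores.isPGroup_pCore (G := G) p).isNilpotent
    exact solvable_of_solvable_injective (f :=
      ({ toFun := fun z => ⟨((z : N.comap π) : G),
          (QuotientGroup.eq_one_iff _).1 (congrArg Subtype.val (MonoidHom.mem_ker.1 z.2))⟩
         map_one' := rfl
         map_mul' := fun _ _ => rfl } : f.ker →* P))
      (fun u v huv => Subtype.ext (Subtype.ext (congrArg (fun w : P => (w : G)) huv)))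
  exact solvable_of_ker_le_range f.ker.subtype f (by rw [Subgroup.range_subtype])

/-- Two primes cannot both divide the class size shared by all noncentral elements of prime power order. -/
theorem false_of_two_primes {r s n : ℕ} [hr : Fact r.Prime] [hs : Fact s.Prime] (hrs : r ≠ s)
    (hprimes : ∀ p : ℕ, p.Prime → p ∣ Nat.card G → p = r ∨ p = s)
    (hn : ∀ (p k : ℕ) (y : G), p.Prime → orderOf y = p ^ k → y ∉ center G → cls y = n)
    (hrn : r ∣ n) (hsn : s ∣ n) (hex : ∃ x : G, x ∉ center G) : False := by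
  have hcardC : ∀ u v : G, cls u = cls v →
      Nat.card (centralizer ({u} : Set G)) = Nat.card (centralizer ({v} : Set G)) := fun u v e => by
    have h1 := (centralizer ({u} : Set G)).card_mul_index
    rw [← (centralizer ({v} : Set G)).card_mul_index,
      show (centralizer ({v} : Set G)).index = (centralizer ({u} : Set G)).index from e.symm] at h1
    exact Nat.eq_of_mul_eq_mul_right (Nat.pos_of_ne_zero index_ne_zero_of_finite) h1
  haveI : Group.IsSolvable G := by
    refine CfsgLib.Char.isSolvable_of_card_eq_pow_mul_pow hr.out hs.out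
      (a := (Nat.card G).factorization r) (b := (Nat.card G).factorization s) ?_
    refine (Nat.factorization_le_iff_dvd Nat.card_pos.ne'
      (mul_ne_zero (pow_ne_zero _ hr.out.ne_zero) (pow_ne_zero _ hs.out.ne_zero))).1 fun t => ?_
    rw [Nat.factorization_mul (pow_ne_zero _ hr.out.ne_zero) (pow_ne_zero _ hs.out.ne_zero),
      hr.out.factorization_pow, hs.out.factorization_pow]
    rcases Nat.eq_zero_or_pos ((Nat.card G).factorization t) with h0 | hpos
    · omega
    · rcases hprimes t (Nat.prime_of_mem_primeFactors (Finsupp.mem_support_iff.2 hpos.ne'))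
        (Nat.dvd_of_factorization_pos hpos.ne') with rfl | rfl <;> simp
  -- elements of one prime centralise the core of the other
  have key : ∀ (r s : ℕ) [Fact r.Prime] [Fact s.Prime], r ≠ s →
      ∀ u : G, (∃ k, orderOf u = s ^ k) → ∀ c ∈ Cfsg.pCore r G, Commute u c := by
    intro r s _ _ hrs u ⟨k, hk⟩
    by_cases huc : u ∈ center G
    · exact fun c _ => (mem_center_iff.1 huc c).symm
    obtain ⟨Q⟩ : Nonempty (Sylow r (centralizer ({u} : Set G))) := inferInstance
    set U := (Q : Subgroup (centralizer ({u} : Set G))).map (centralizer ({u} : Set G)).subtype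
    have hU : IsPGroup r U := Q.2.map _
    have hUu : ∀ w ∈ U, u * w = w * u := fun w hw =>
      (commute_iff.1 (map_subtype_le _ hw)).symm.eq
    haveI : (Cfsg.pCore r G).Characteristic := CfsgLib.Cores.pCore_characteristic r
    have hnorm : ∀ w : G, w ∈ normalizer ((Cfsg.pCore r G : Subgroup G) : Set G) := fun w => by
      rw [normalizer_eq_top]; exact mem_top w
    refine CfsgLib.Local.commute_of_commute_fixedPoints hU hUu ?_ _
      (CfsgLib.Cores.isPGroup_pCore r) (fun w _ => hnorm w) (hnorm u) ?_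
    · rw [hk]
      exact ((Nat.coprime_primes Fact.out Fact.out).2 (Ne.symm hrs)).pow_left k
    intro c hc hfix
    by_cases hcc : c ∈ center G
    · exact (mem_center_iff.1 hcc u)
    obtain ⟨l, hl⟩ := IsPGroup.iff_orderOf.1 (CfsgLib.Cores.isPGroup_pCore r) ⟨c, hc⟩
    rw [Subgroup.orderOf_mk] at hl
    have hW : IsPGroup r (U ⊔ zpowers c : Subgroup G) := hU.to_sup_of_normal_left'
      (IsPGroup.of_card (n := l) (by rw [Nat.card_zpowers, hl])) (fun w hw => by
      refine (centralizer_le_normalizer (U : Set G)) (mem_centralizer_iff.2 fun z hz => ?_)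
      obtain ⟨i, rfl⟩ := hw
      exact (Commute.zpow_right (hfix z hz) i).eq)
    have hle : (U ⊔ zpowers c : Subgroup G) ≤ centralizer ({c} : Set G) :=
      sup_le (fun w hw => commute_iff.2 (hfix w hw)) (zpowers_le.2 (commute_iff.2 (Commute.refl c)))
    obtain ⟨i, hi⟩ := hW.exists_card_eq
    have hdvd := card_dvd_of_le hle
    rw [hi, hcardC c u ((hn r l c Fact.out hl hcc).trans (hn s k u Fact.out hk huc).symm),
      (Fact.out : r.Prime).pow_dvd_iff_le_factorization Nat.card_pos.ne'] at hdvd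
    have hcardU : Nat.card U = r ^ (Nat.card (centralizer ({u} : Set G))).factorization r := by
      rw [card_map_of_injective (subtype_injective _), Q.card_eq_multiplicity]
    have hUW : U = U ⊔ zpowers c := Subgroup.eq_of_le_of_card_ge le_sup_left (by
      rw [hi, hcardU]; exact Nat.pow_le_pow_right (Fact.out : r.Prime).pos hdvd)
    exact hUu c (hUW.symm ▸ ((le_sup_right : zpowers c ≤ U ⊔ zpowers c) (mem_zpowers c)))
  have hcore : ∀ (r s : ℕ) [Fact r.Prime] [Fact s.Prime], r ≠ s →
      (∀ p : ℕ, p.Prime → p ∣ Nat.card G → p = r ∨ p = s) →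
      ∀ u : G, (∃ k, orderOf u = s ^ k) → u ∈ Cfsg.pCore s G := by
    intro r s _ _ hrs hprimes u hu
    haveI : (Cfsg.pCore r G).Characteristic := CfsgLib.Cores.pCore_characteristic r
    haveI : (Cfsg.pCore s G).Characteristic := CfsgLib.Cores.pCore_characteristic s
    set D := centralizer ((Cfsg.pCore r G : Subgroup G) : Set G) with hD
    have huD : u ∈ D := mem_centralizer_iff.2 fun c hc => (key r s hrs u hu c hc).eq.symm
    have hpc : IsPGroup s (D ⧸ center D) := by
      intro z
      obtain ⟨d, rfl⟩ := QuotientGroup.mk_surjective z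
      obtain ⟨a, b, hab, ha, hb, ⟨k, hk⟩, hbs⟩ := CfsgLib.Cores.exists_pow_mul_pow s d
      have hbc : b ∈ center D := by
        refine mem_of_parts _ b fun t ht htd e _ ⟨l, hl⟩ => ?_
        have htr : t = r := (hprimes t ht ((htd.trans (orderOf_dvd_natCard b)).trans
          (card_subgroup_dvd_card D))).resolve_right fun e' =>
            ht.ne_one (Nat.eq_one_of_dvd_coprimes hbs htd (e' ▸ dvd_rfl))
        subst htr
        rw [← Subgroup.orderOf_coe] at hl
        have heF : (e : G) ∈ centralizer (Cfsg.fittingSubgroup G : Set G) := by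
          have hle : Cfsg.fittingSubgroup G ≤ centralizer ({(e : G)} : Set G) := by
            rw [CfsgLib.Cores.fittingSubgroup_eq_iSup_pCore]
            refine iSup_le fun p => ?_
            rcases hprimes p (Nat.prime_of_mem_primeFactors p.2)
              (Nat.dvd_of_mem_primeFactors p.2) with hp | hp <;> rw [hp]
            · exact fun c hc => commute_iff.2 (mem_centralizer_iff.1 e.2 c hc)
            · exact fun c hc => commute_iff.2 (key s t hrs.symm e ⟨l, hl⟩ c hc).symm
          exact mem_centralizer_iff.2 fun c hc => (commute_iff.1 (hle hc)).eq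
        have heFit := CfsgLib.Solvable.centralizer_fittingSubgroup_le heF
        have her : (e : G) ∈ Cfsg.pCore t G := by
          haveI := CfsgLib.Cores.isNilpotent_fittingSubgroup (G := G)
          refine (show Cfsg.pCore t (Cfsg.fittingSubgroup G) ≤
            (Cfsg.pCore t G).subgroupOf (Cfsg.fittingSubgroup G) from ?_) (x := ⟨(e : G), heFit⟩) ?_
          · haveI := CfsgLib.Cores.fittingSubgroup_normal (G := G)
            exact fun z hz => mem_subgroupOf.2
              (CfsgLib.Cores.map_subtype_pCore_le_of_normal t (Cfsg.fittingSubgroup G) ⟨z, hz, rfl⟩)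
          · obtain ⟨T, hT⟩ := (IsPGroup.of_card (n := l)
              (by rw [Nat.card_zpowers, Subgroup.orderOf_mk, hl]) :
              IsPGroup t (zpowers (⟨(e : G), heFit⟩ : Cfsg.fittingSubgroup G))).exists_le_sylow
            haveI : (T : Subgroup (Cfsg.fittingSubgroup G)).Normal := inferInstance
            exact CfsgLib.Cores.le_pCore T.2 (hT (mem_zpowers _))
        exact mem_center_iff.2 fun d' => Subtype.ext (mem_centralizer_iff.1 d'.2 e her).symm
      refine ⟨k, ?_⟩
      rw [← QuotientGroup.mk_pow, QuotientGroup.eq_one_iff, hab,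
        Commute.mul_pow (mem_center_iff.1 hbc a), ← hk, pow_orderOf_eq_one, one_mul]
      exact pow_mem hbc _
    haveI : Group.IsNilpotent D := Group.of_quotient_center_nilpotent hpc.isNilpotent
    obtain ⟨k, hk⟩ := hu
    obtain ⟨T, hT⟩ := (IsPGroup.of_card (n := k)
      (by rw [Nat.card_zpowers, Subgroup.orderOf_mk, hk]) :
      IsPGroup s (zpowers (⟨u, huD⟩ : D))).exists_le_sylow
    haveI : (T : Subgroup D).Normal := inferInstance
    haveI : D.Normal := by rw [hD]; exact Subgroup.normal_centralizer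
    exact CfsgLib.Cores.map_subtype_pCore_le_of_normal s D
      ⟨⟨u, huD⟩, CfsgLib.Cores.le_pCore T.2 (hT (mem_zpowers _)), rfl⟩
  -- some noncentral element of prime power order
  obtain ⟨p, k, y, hp, hk, hy⟩ : ∃ (p k : ℕ) (y : G), p.Prime ∧ orderOf y = p ^ k ∧ y ∉ center G := by
    by_contra hcon
    obtain ⟨x, hx⟩ := hex
    exact hx (mem_of_parts _ x fun p hp _ a _ ⟨k, hk⟩ =>
      by_contra fun h => hcon ⟨p, k, a, hp, hk, h⟩)
  -- it centralises a Sylow subgroup for the other prime
  have hfin : ∀ (r s : ℕ) [Fact r.Prime] [Fact s.Prime], r ≠ s →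
      (∀ p : ℕ, p.Prime → p ∣ Nat.card G → p = r ∨ p = s) → r ∣ n →
      orderOf y = s ^ k → False := by
    intro r s _ _ hrs hprimes hrn hys
    obtain ⟨R⟩ : Nonempty (Sylow r G) := inferInstance
    have hle : (R : Subgroup G) ≤ centralizer ({y} : Set G) := by
      intro c hc
      obtain ⟨l, hl⟩ := IsPGroup.iff_orderOf.1 R.2 ⟨c, hc⟩
      rw [Subgroup.orderOf_mk] at hl
      exact commute_iff.2 (key r s hrs y ⟨k, hys⟩ c (hcore s r hrs.symm
        (fun p hp hd => (hprimes p hp hd).symm) c ⟨l, hl⟩)).symm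
    exact R.not_dvd_index ((hrn.trans (hn s k y Fact.out hys hy).symm.dvd).trans (index_dvd_of_le hle))
  have hk0 : k ≠ 0 := fun e => hy (by rw [e, pow_zero, orderOf_eq_one_iff] at hk; rw [hk]; exact one_mem _)
  have hpd : p ∣ Nat.card G := (dvd_pow_self p hk0).trans (hk ▸ orderOf_dvd_natCard y)
  rcases hprimes p hp hpd with rfl | rfl
  · exact hfin s p hrs.symm (fun t ht hd => (hprimes t ht hd).symm) hsn hk
  · exact hfin r p hrs hprimes hrn hk

/-- If the elements of prime power order have class sizes powers of one prime, the group is nilpotent. -/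
theorem isNilpotent_of_primary_pow {q : ℕ} [hq : Fact q.Prime]
    (h : ∀ (p k : ℕ) (y : G), p.Prime → orderOf y = p ^ k → ∃ a, cls y = q ^ a) :
    Group.IsNilpotent G := by
  haveI : (Cfsg.pCore q G).Characteristic := CfsgLib.Cores.pCore_characteristic q
  set Q := Cfsg.pCore q G with hQ
  set π := QuotientGroup.mk' Q with hπ
  have hsur : Function.Surjective π := QuotientGroup.mk'_surjective Q
  have himg : ∀ (p k : ℕ) (y : G), p.Prime → p ≠ q → orderOf y = p ^ k →
      π y ∈ Cfsg.pCore p (G ⧸ Q) := by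
    intro p k y hp hpq hy
    haveI : Fact p.Prime := ⟨hp⟩
    obtain ⟨a, ha⟩ := h p k y hp hy
    obtain ⟨b, -, hb⟩ := (Nat.dvd_prime_pow hq.out).1 (((Subgroup.index_dvd_of_le
      (K := centralizer ({π y} : Set (G ⧸ Q))) (H := (centralizer ({y} : Set G)).map π) (by
        rintro _ ⟨c, hc, rfl⟩
        exact commute_iff.2 ((commute_iff.1 hc).map π))).trans (Subgroup.index_map_dvd _ hsur)).trans ha.dvd)
    refine mem_pCore_of_commute_conj ?_ (CfsgLib.PrimePowerClass.commute_conj_of_pCore_eq_bot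
      (π y) ⟨b, hb⟩ (CfsgLib.Cores.pCore_quotient_self q))
    obtain ⟨j, -, hj⟩ := (Nat.dvd_prime_pow hp).1 (hy ▸ orderOf_map_dvd π y)
    exact ⟨j, hj⟩
  have hsyl : ∀ (p : ℕ) [Fact p.Prime], p ≠ q → ∀ P : Sylow p G,
      (P : Subgroup G).map π = Cfsg.pCore p (G ⧸ Q) := by
    intro p _ hpq P
    refine le_antisymm ?_ ?_
    · rintro _ ⟨y, hy, rfl⟩
      obtain ⟨k, hk⟩ := IsPGroup.iff_orderOf.1 P.2 ⟨y, hy⟩
      rw [Subgroup.orderOf_mk] at hk
      exact himg p k y Fact.out hpq hk
    · haveI : (Cfsg.pCore p (G ⧸ Q)).Characteristic := CfsgLib.Cores.pCore_characteristic p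
      obtain ⟨T, hT⟩ := (CfsgLib.Cores.isPGroup_pCore (G := G ⧸ Q) p).exists_le_sylow
      obtain ⟨g, hg⟩ := MulAction.exists_smul_eq (G ⧸ Q) T (P.mapSurjective hsur)
      intro z hz
      have hz' : z ∈ ((g • T : Sylow p (G ⧸ Q)) : Subgroup (G ⧸ Q)) := by
        refine (Subgroup.mem_pointwise_smul_iff_inv_smul_mem (a := MulAut.conj g)).2 (hT ?_)
        simpa [MulAut.smul_def, mul_assoc] using
          (inferInstance : (Cfsg.pCore p (G ⧸ Q)).Normal).conj_mem z hz g⁻¹
      rwa [hg] at hz'
  have hfree : ∀ (p k : ℕ) (u : G) [Fact p.Prime], p ≠ q → orderOf u = q ^ k →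
      ∃ P : Sylow p G, ∀ c ∈ (P : Subgroup G), Commute c u := by
    intro p k u _ hpq hu
    obtain ⟨a, ha⟩ := h q k u hq.out hu
    obtain ⟨P, hP⟩ := exists_sylow_le (w := u) (p := p) fun hd => hpq
      ((Nat.prime_dvd_prime_iff_eq Fact.out hq.out).1
        ((Fact.out : p.Prime).dvd_of_dvd_pow (ha ▸ hd)))
    exact ⟨P, fun c hc => commute_iff.1 (hP hc)⟩
  -- the `q`-elements lie in the core
  have hQall : ∀ (k : ℕ) (u : G), orderOf u = q ^ k → u ∈ Q := by
    intro k u hu
    set S : Set (G ⧸ Q) := {z | ∃ p : ℕ, p.Prime ∧ p ≠ q ∧ z ∈ Cfsg.pCore p (G ⧸ Q)}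
    set K := centralizer S with hK
    have huK : π u ∈ K := by
      refine mem_centralizer_iff.2 ?_
      rintro z ⟨p, hp, hpq, hz⟩
      haveI : Fact p.Prime := ⟨hp⟩
      obtain ⟨P, hP⟩ := hfree p k u hpq hu
      rw [← hsyl p hpq P] at hz
      obtain ⟨c, hc, rfl⟩ := hz
      exact ((hP c hc).map π).eq
    haveI : K.Normal := by
      refine ⟨fun z hz g => mem_centralizer_iff.2 ?_⟩
      rintro w ⟨p, hp, hpq, hw⟩
      haveI : Fact p.Prime := ⟨hp⟩
      haveI : (Cfsg.pCore p (G ⧸ Q)).Characteristic := CfsgLib.Cores.pCore_characteristic p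
      have h1 := mem_centralizer_iff.1 hz (g⁻¹ * w * g)
        ⟨p, hp, hpq, by simpa using (inferInstance : (Cfsg.pCore p (G ⧸ Q)).Normal).conj_mem w hw g⁻¹⟩
      calc w * (g * z * g⁻¹) = g * (g⁻¹ * w * g * z) * g⁻¹ := by group
        _ = g * (z * (g⁻¹ * w * g)) * g⁻¹ := by rw [h1]
        _ = g * z * g⁻¹ * w := by group
    have hpc : IsPGroup q (K ⧸ center K) := by
      intro z
      obtain ⟨d, rfl⟩ := QuotientGroup.mk_surjective z
      obtain ⟨a, b, hab, ha, hb, ⟨l, hl⟩, hbq⟩ := CfsgLib.Cores.exists_pow_mul_pow q d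
      have hbc : b ∈ center K := by
        refine mem_of_parts _ b fun t ht htd e _ ⟨j, hj⟩ => ?_
        have htq : t ≠ q := fun e' => ht.ne_one (Nat.eq_one_of_dvd_coprimes hbq htd (e' ▸ dvd_rfl))
        haveI : Fact t.Prime := ⟨ht⟩
        rw [← Subgroup.orderOf_coe] at hj
        obtain ⟨P⟩ : Nonempty (Sylow t G) := inferInstance
        obtain ⟨T, hT⟩ := (IsPGroup.of_card (n := j) (by rw [Nat.card_zpowers, hj]) :
          IsPGroup t (zpowers (e : G ⧸ Q))).exists_le_sylow
        haveI : (Cfsg.pCore t (G ⧸ Q)).Characteristic := CfsgLib.Cores.pCore_characteristic t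
        have heS : (e : G ⧸ Q) ∈ Cfsg.pCore t (G ⧸ Q) := by
          have e1 : (T : Subgroup (G ⧸ Q)) = Cfsg.pCore t (G ⧸ Q) := by
            obtain ⟨g, hg⟩ := MulAction.exists_smul_eq (G ⧸ Q) (P.mapSurjective hsur) T
            rw [← hg, Sylow.coe_subgroup_smul,
              show ((P.mapSurjective hsur : Sylow t (G ⧸ Q)) : Subgroup (G ⧸ Q)) =
                Cfsg.pCore t (G ⧸ Q) from hsyl t htq P]
            exact Subgroup.Normal.conj_smul_eq_self g _
          exact e1 ▸ hT (mem_zpowers _)
        exact mem_center_iff.2 fun d' => Subtype.ext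
          (mem_centralizer_iff.1 d'.2 _ ⟨t, ht, htq, heS⟩).symm
      refine ⟨l, ?_⟩
      rw [← QuotientGroup.mk_pow, QuotientGroup.eq_one_iff, hab,
        Commute.mul_pow (mem_center_iff.1 hbc a), ← hl, pow_orderOf_eq_one, one_mul]
      exact pow_mem hbc _
    haveI : Group.IsNilpotent K := Group.of_quotient_center_nilpotent hpc.isNilpotent
    obtain ⟨j, -, hj⟩ := (Nat.dvd_prime_pow hq.out).1 (hu ▸ orderOf_map_dvd π u)
    obtain ⟨T, hT⟩ := (IsPGroup.of_card (n := j)
      (by rw [Nat.card_zpowers, Subgroup.orderOf_mk, hj]) :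
      IsPGroup q (zpowers (⟨π u, huK⟩ : K))).exists_le_sylow
    haveI : (T : Subgroup K).Normal := inferInstance
    have hmem := CfsgLib.Cores.map_subtype_pCore_le_of_normal q K
      ⟨⟨π u, huK⟩, CfsgLib.Cores.le_pCore T.2 (hT (mem_zpowers _)), rfl⟩
    rw [CfsgLib.Cores.pCore_quotient_self, mem_bot] at hmem
    exact (QuotientGroup.eq_one_iff _).1 hmem
  -- all Sylow subgroups are normal
  refine ((Group.isNilpotent_of_finite_tfae (G := G)).out 0 3).2 ?_
  intro p hpF P
  by_cases hpq : p = q
  · subst hpq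
    have e : (P : Subgroup G) = Q := by
      refine le_antisymm (fun u hu => ?_) ?_
      · obtain ⟨k, hk⟩ := IsPGroup.iff_orderOf.1 P.2 ⟨u, hu⟩
        exact hQall k u (by rwa [Subgroup.orderOf_mk] at hk)
      · have hle : (P : Subgroup G) ≤ Q := fun u hu => by
          obtain ⟨k, hk⟩ := IsPGroup.iff_orderOf.1 P.2 ⟨u, hu⟩
          exact hQall k u (by rwa [Subgroup.orderOf_mk] at hk)
        exact (P.3 (CfsgLib.Cores.isPGroup_pCore p) hle).le
    rw [e]; infer_instance
  -- the core centralises `P`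
  haveI : (Cfsg.pCore p (G ⧸ Q)).Characteristic := CfsgLib.Cores.pCore_characteristic p
  set J := (Cfsg.pCore p (G ⧸ Q)).comap π with hJ
  have hPJ : (P : Subgroup G) ≤ J := fun c hc => by
    rw [hJ, mem_comap, ← hsyl p hpq P]; exact Subgroup.mem_map_of_mem π hc
  have hJsup : J = (P : Subgroup G) ⊔ Q := by
    rw [hJ, ← hsyl p hpq P, Subgroup.comap_map_eq, hπ, QuotientGroup.ker_mk']
  set N := normalizer ((P : Subgroup G) : Set G) with hN
  have htop : N ⊔ Q = ⊤ := by
    have h1 := Sylow.normalizer_sup_eq_top (P.subtype hPJ)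
    have e : ((P.subtype hPJ : Sylow p J) : Subgroup J).map J.subtype = (P : Subgroup G) := by
      rw [Sylow.coe_subtype, Subgroup.map_subgroupOf_eq_of_le hPJ]
    rw [e] at h1
    rw [eq_top_iff, ← h1, hJsup]
    exact sup_le le_sup_left (sup_le ((Subgroup.le_normalizer).trans le_sup_left) le_sup_right)
  set W := (centralizer ((P : Subgroup G) : Set G)).subgroupOf Q with hW
  have hWtop : W = ⊤ := by
    refine CfsgLib.FGS.eq_top_of_forall_exists_conj fun u => ?_
    obtain ⟨k, hk⟩ := IsPGroup.iff_orderOf.1 (CfsgLib.Cores.isPGroup_pCore q) u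
    obtain ⟨P', hP'⟩ := hfree p k (u : G) hpq (by rw [Subgroup.orderOf_coe]; exact hk)
    obtain ⟨g, hg⟩ := MulAction.exists_smul_eq G P P'
    obtain ⟨n, hn, c, hc, rfl⟩ : ∃ n ∈ N, ∃ c ∈ Q, g = c * n := by
      have hgm : g ∈ (Q ⊔ N : Subgroup G) := by rw [sup_comm, htop]; exact mem_top g
      obtain ⟨c, hc, n, hn, e⟩ := Subgroup.mem_sup_of_normal_left.1 hgm
      exact ⟨n, hn, c, hc, e.symm⟩
    refine ⟨⟨c, hc⟩⁻¹, mem_subgroupOf.2 (mem_centralizer_iff.2 fun z hz => ?_)⟩
    have hz' : c * z * c⁻¹ ∈ (P' : Subgroup G) := by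
      rw [← hg, Sylow.coe_subgroup_smul]
      refine ⟨n⁻¹ * z * n, (Subgroup.mem_normalizer_iff''.1 hn z).1 hz, ?_⟩
      simp [MulAut.smul_def, mul_assoc]
    have h1 := (hP' _ hz').map (MulAut.conj c⁻¹).toMonoidHom
    simpa [mul_assoc] using h1.eq
  have hQP : ∀ c ∈ Q, ∀ z ∈ (P : Subgroup G), Commute c z := fun c hc z hz =>
    (mem_centralizer_iff.1 (mem_subgroupOf.1 (hWtop ▸ mem_top (⟨c, hc⟩ : Q) : (⟨c, hc⟩ : Q) ∈ W))
      z hz).symm
  refine ⟨fun z hz g => ?_⟩
  have hgm : g ∈ (Q ⊔ N : Subgroup G) := by rw [sup_comm, htop]; exact mem_top g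
  obtain ⟨c, hc, n, hn, rfl⟩ := Subgroup.mem_sup_of_normal_left.1 hgm
  have h1 : n * z * n⁻¹ ∈ (P : Subgroup G) := (Subgroup.mem_normalizer_iff.1 hn z).1 hz
  rw [show c * n * z * (c * n)⁻¹ = c * (n * z * n⁻¹) * c⁻¹ by group, (hQP c hc _ h1).eq,
    mul_inv_cancel_right]
  exact h1

end CfsgLib.ConjType
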