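import Cfsg.Agent.Lib.ConjType.NoInclusion
import Cfsg.Agent.Lib.Invol.Quaternion
import Cfsg.Agent.S0183
import Cfsg.Agent.S2202
import Cfsg.Agent.S4355
import Cfsg.Agent.Lib.SL2Table.SL2Classes

/-!
Simple groups with at most three nontrivial class sizes are the groups `PSL(2, 2^m)`.
-/

set_option autoImplicit false
set_option linter.style.haveILetI false

namespace CfsgLib.ConjType

open Subgroup CfsgLib.FGS.TwoLargest

variable {G : Type*} [Group G] [Finite G]
  (hI : ∀ g h : G, g ≠ 1 → h ≠ 1 → centralizer ({g} : Set G) ≤ centralizer ({h} : Set G) →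
    centralizer ({g} : Set G) = centralizer ({h} : Set G))
include hI

/-- The centraliser of an element of prime order `p` is abelian or a `p`-group. -/
theorem abelian_or_pGroup {p : ℕ} (hp : p.Prime) {a : G} (ha : orderOf a = p) :
    IsPGroup p (centralizer ({a} : Set G)) ∨ IsMulCommutative (centralizer ({a} : Set G)) := by
  by_cases hP : IsPGroup p (centralizer ({a} : Set G))
  · exact Or.inl hP
  right
  have ha1 := ne_one_of_prime hp ha
  set K := centralizer ({a} : Set G) with hK
  obtain ⟨q, hq, hqd, hqp⟩ : ∃ q : ℕ, q.Prime ∧ q ∣ Nat.card K ∧ q ≠ p := by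
    by_contra hcon
    push Not at hcon
    exact hP (IsPGroup.of_card (Nat.eq_prime_pow_of_unique_prime_dvd Nat.card_pos.ne'
      fun {d} hd hdd => hcon d hd hdd))
  obtain ⟨b, hbK, hb⟩ := exists_order_mem hq hqd
  have heq : ∀ {u v : G} {s : ℕ}, s.Prime → orderOf u = s → Commute u v →
      (orderOf u).Coprime (orderOf v) → v ≠ 1 → centralizer ({u} : Set G) = centralizer ({v} : Set G) := by
    intro u v s hs hu huv hco hv
    have h := centralizer_mul_le_both huv hco
    have h1 := mul_ne_one_of_prime hs huv hu hco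
    exact (hI _ _ h1 (ne_one_of_prime hs hu) h.1).symm.trans
      (hI _ _ h1 hv h.2)
  have hab : K = centralizer ({b} : Set G) := heq hp ha (commute_iff.1 hbK).symm
    (coprime_of_ne hp hq (Ne.symm hqp) ha hb) (ne_one_of_prime hq hb)
  have hpp : ∀ e ∈ K, (∃ r k : ℕ, r.Prime ∧ orderOf e = r ^ k) →
      K ≤ centralizer ({e} : Set G) := by
    intro e he ⟨r, k, hr, hek⟩
    rcases eq_or_ne e 1 with rfl | he1
    · intro z _; exact commute_iff.2 (Commute.one_right z)
    by_cases hrp : r = p
    · rw [hab]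
      refine (heq hq hb (commute_iff.1 (hab ▸ he)).symm ?_ he1).le
      rw [hb, hek, hrp]
      exact ((Nat.coprime_primes hq hp).2 hqp).pow_right k
    · refine (heq hp ha (commute_iff.1 he).symm ?_ he1).le
      rw [ha, hek]
      exact ((Nat.coprime_primes hp hr).2 (Ne.symm hrp)).pow_right k
  refine ⟨⟨fun s t => Subtype.ext ?_⟩⟩
  have ht : (t : G) ∈ centralizer (K : Set G) := mem_of_parts _ _ fun r hr _ e he ⟨k, hk⟩ =>
    mem_centralizer_iff.2 fun z hz =>
      mem_centralizer_singleton_iff.1 (hpp e ((zpowers_le.2 t.2) he) ⟨r, k, hr, hk⟩ hz)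
  exact mem_centralizer_iff.1 ht (s : G) s.2

/-- Centralisers of nonidentity elements are nilpotent. -/
theorem isCNGroup : Cfsg.IsCNGroup G := by
  intro g hg
  obtain ⟨p, a, haz, hp, -, ha⟩ := exists_prime_mem_zpowers hg
  rw [hI _ _ hg (ne_one_of_prime hp ha) (centralizer_le_of_mem_zpowers haz)]
  haveI : Fact p.Prime := ⟨hp⟩
  rcases abelian_or_pGroup hI hp ha with h | h
  · exact h.isNilpotent
  · letI : CommGroup (centralizer ({a} : Set G)) :=
      { (inferInstance : Group (centralizer ({a} : Set G))) with mul_comm := h.is_comm.comm }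
    infer_instance

/-- Subgroups of odd order are solvable. -/
theorem isSolvable_of_odd (K : Subgroup G) (hK : Odd (Nat.card K)) : Group.IsSolvable K := by
  refine Cfsg.Agent.S0183.result hK fun k hk => ?_
  haveI := isCNGroup hI (k : G) (fun e => hk (Subtype.ext e))
  let f : centralizer ({k} : Set K) →* centralizer ({(k : G)} : Set G) :=
    (K.subtype.comp (centralizer ({k} : Set K)).subtype).codRestrict _ fun z =>
      commute_iff.2 (congrArg Subtype.val (commute_iff.1 z.2).eq)
  refine Subgroup.isNilpotent_of_ker_le_center f ?_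
  rw [show f.ker = ⊥ from f.ker_eq_bot_iff.2 fun u v huv =>
    Subtype.ext (Subtype.ext (congrArg (fun w : centralizer ({(k : G)} : Set G) => (w : G)) huv))]
  exact bot_le

theorem even_card (hns : ¬ Group.IsSolvable G) : Even (Nat.card G) := by
  by_contra hodd
  exact hns (Cfsg.Agent.S0183.result (Nat.not_even_iff_odd.1 hodd) (isCNGroup hI))

variable (hns : ¬ Group.IsSolvable G)
include hns

theorem involution_centralizer_abelian {t : G} (ht : orderOf t = 2) :
    IsMulCommutative (centralizer ({t} : Set G)) := by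
  haveI : Fact (Nat.Prime 2) := ⟨Nat.prime_two⟩
  have h2 : 2 ∣ Nat.card G := (even_card hI hns).two_dvd
  refine (abelian_or_pGroup hI Nat.prime_two ht).elim (fun hP => ?_) id
  obtain ⟨S, hS⟩ := hP.exists_le_sylow
  suffices hcomm : IsMulCommutative (S : Subgroup G) from ⟨⟨fun a b => Subtype.ext
    (congrArg Subtype.val (hcomm.is_comm.comm (⟨a, hS a.2⟩ : (S : Subgroup G)) ⟨b, hS b.2⟩) :)⟩⟩
  by_cases hex : ∃ w : G, orderOf w = 2 ∧ ¬ 2 ∣ cls w ∧ IsMulCommutative (centralizer ({w} : Set G))
  · obtain ⟨w, -, hw, hab⟩ := hex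
    obtain ⟨T, hT⟩ := exists_sylow_le hw
    have hTc : IsMulCommutative (T : Subgroup G) := ⟨⟨fun a b => Subtype.ext
      (congrArg Subtype.val (hab.is_comm.comm (⟨a, hT a.2⟩ : centralizer ({w} : Set G)) ⟨b, hT b.2⟩) :)⟩⟩
    exact ⟨⟨fun a b => (T.equiv S).symm.injective (by
      rw [map_mul, map_mul]; exact hTc.is_comm.comm _ _)⟩⟩
  push Not at hex
  refine Cfsg.Agent.S4355.result ?_ S
  intro y ⟨k, hk⟩
  rcases eq_or_ne y 1 with rfl | hy
  · rw [show (centralizer ({(1 : G)} : Set G)).index = 1 from cls_eq_one.2 (one_mem _)]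
    norm_num
  obtain ⟨r, y₀, hy₀z, hr, hrd, hy₀⟩ := exists_prime_mem_zpowers hy
  obtain rfl : r = 2 :=
    (Nat.prime_dvd_prime_iff_eq hr Nat.prime_two).1 (hr.dvd_of_dvd_pow (hk ▸ hrd))
  rw [hI _ _ hy (ne_one_of_prime hr hy₀) (centralizer_le_of_mem_zpowers hy₀z)]
  obtain ⟨w, hwo, hw, hwy⟩ := exists_central_commute h2 ⟨1, by rw [hy₀, pow_one]⟩
  rcases abelian_or_pGroup hI hr hy₀ with hP' | hab
  · obtain ⟨T, hT⟩ := hP'.exists_le_sylow
    obtain ⟨w', hw'o, hw', hle⟩ := exists_central_of_sylow h2 T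
    rw [hI _ _ (ne_one_of_prime hr hy₀) (ne_one_of_prime hr hw'o) (hT.trans hle)]
    exact hw'
  · refine absurd ?_ (hex w hwo hw)
    rw [← hI _ _ (ne_one_of_prime hr hy₀) (ne_one_of_prime hr hwo) fun z hz =>
      commute_iff.2 (congrArg Subtype.val (hab.is_comm.comm (⟨z, hz⟩ : centralizer ({y₀} : Set G))
        ⟨w, commute_iff.2 hwy⟩) :)]
    exact hab

/-- A nonsolvable group with trivial centre and no proper inclusions between centralisers of
nonidentity elements is `PSL(2, 2^m)`. -/
theorem equiv_psl_of_no_inclusion (hZ : center G = ⊥) :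
    ∃ (m : ℕ) (F : Type) (_ : Field F) (_ : Fintype F), 2 ≤ m ∧ Fintype.card F = 2 ^ m ∧
      Nonempty (G ≃* Matrix.ProjectiveSpecialLinearGroup (Fin 2) F) := by
  haveI : Fact (Nat.Prime 2) := ⟨Nat.prime_two⟩
  have heven := even_card hI hns
  rcases Cfsg.Agent.S2202.result heven (fun t ht => involution_centralizer_abelian hI hns ht) with
    h | h | ⟨F, hF, hfin, A, hA, hAf, hchar, -, ⟨e⟩⟩
  · obtain ⟨P⟩ : Nonempty (Sylow 2 G) := inferInstance
    obtain ⟨ψ, -, hψ⟩ := CfsgLib.Invol.exists_retraction_of_cyclic_sylow_two P (h P) heven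
    haveI := isSolvable_of_odd hI ψ.ker (by
      by_contra hev
      rw [Nat.not_odd_iff_even] at hev
      obtain ⟨u, hu, huo⟩ := exists_order_mem Nat.prime_two hev.two_dvd
      have h1 := (hψ u).1 (MonoidHom.mem_ker.1 hu)
      rw [huo] at h1
      exact absurd h1 (by decide))
    haveI : Group.IsSolvable (P : Subgroup G) := by haveI := P.2.isNilpotent; infer_instance
    exact absurd (solvable_of_ker_le_range ψ.ker.subtype ψ (by rw [Subgroup.range_subtype])) hns
  · obtain ⟨P⟩ : Nonempty (Sylow 2 G) := inferInstance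
    haveI := h P
    obtain ⟨K, hK⟩ := Subgroup.exists_right_complement'_of_coprime P.card_coprime_index
    haveI := isSolvable_of_odd hI K (by
      rw [← hK.symm.index_eq_card, ← Nat.not_even_iff_odd, even_iff_two_dvd]
      exact P.not_dvd_index)
    haveI : Group.IsSolvable (P : Subgroup G) := by haveI := P.2.isNilpotent; infer_instance
    haveI : Group.IsSolvable (G ⧸ (P : Subgroup G)) :=
      solvable_of_surjective (f := (QuotientGroup.mk' (P : Subgroup G)).comp K.subtype) fun z => by
        obtain ⟨w, rfl⟩ := QuotientGroup.mk'_surjective _ z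
        obtain ⟨⟨a, b⟩, hab⟩ := hK.2 w
        refine ⟨b, ?_⟩
        rw [← hab]
        simp [(QuotientGroup.eq_one_iff (a : G)).2 a.2]
    exact absurd (solvable_of_ker_le_range (P : Subgroup G).subtype (QuotientGroup.mk' (P : Subgroup G))
      (by simp)) hns
  · let π : G →* Matrix.SpecialLinearGroup (Fin 2) F := (MonoidHom.fst _ _).comp e.toMonoidHom
    have hsur : Function.Surjective π := fun s => ⟨e.symm (s, 1), by simp [π]⟩
    have hinj : Function.Injective π := by
      refine π.ker_eq_bot_iff.1 ((eq_bot_iff_forall _).2 fun u hu => ?_)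
      have hu1 : (e u).1 = 1 := MonoidHom.mem_ker.1 hu
      have : u ∈ center G := mem_center_iff.2 fun v => e.injective (Prod.ext
        (by simp [hu1]) (by simp [mul_comm]))
      rwa [hZ, mem_bot] at this
    let e1 : G ≃* Matrix.SpecialLinearGroup (Fin 2) F := MulEquiv.ofBijective π ⟨hinj, hsur⟩
    haveI := hchar
    obtain ⟨m, -, hm⟩ := FiniteField.card F 2
    have h6 : (m : ℕ) ≠ 1 := by
      intro e6
      have hcard := CfsgLib.SL2Table.card_sl_two (F := F)
      rw [hm, e6, ← Nat.card_congr e1.toEquiv] at hcard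
      exact hns (CfsgLib.Char.isSolvable_of_card_eq_pow_mul_pow Nat.prime_two Nat.prime_three
        (a := 1) (b := 1) (by rw [hcard]; norm_num))
    have hz : center (Matrix.SpecialLinearGroup (Fin 2) F) = ⊥ := by
      rw [eq_bot_iff_forall]
      intro B hB
      obtain ⟨r, hr, hB'⟩ := Matrix.SpecialLinearGroup.mem_center_iff.1 hB
      have h1 : r = 1 := by
        rw [Fintype.card_fin, pow_two] at hr
        exact (mul_self_eq_one_iff.1 hr).elim id fun h => by rw [h, CharTwo.neg_eq]
      apply Subtype.ext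
      rw [← hB', h1, map_one]
      rfl
    exact ⟨m, F, hF, hfin, by have := m.pos; omega, hm, ⟨e1.trans (MulEquiv.ofBijective
      (QuotientGroup.mk' (center (Matrix.SpecialLinearGroup (Fin 2) F)))
      ⟨by rw [← MonoidHom.ker_eq_bot_iff, QuotientGroup.ker_mk']; exact hz,
        QuotientGroup.mk'_surjective _⟩)⟩⟩

omit hI hns in
/-- A nonsolvable group with trivial centre and at most three nontrivial class sizes is `PSL(2, 2^m)`. -/
theorem equiv_psl_of_not_solvable (hZ : center G = ⊥) (hns : ¬ Group.IsSolvable G)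
    (h3 : {m : ℕ | ∃ x : G, x ≠ 1 ∧ cls x = m}.ncard ≤ 3) :
    ∃ (m : ℕ) (F : Type) (_ : Field F) (_ : Fintype F), 2 ≤ m ∧ Fintype.card F = 2 ^ m ∧
      Nonempty (G ≃* Matrix.ProjectiveSpecialLinearGroup (Fin 2) F) :=
  equiv_psl_of_no_inclusion (fun _ _ hg hh hle => by_contra fun hne =>
    hns (isSolvable_of_inclusion hZ h3 hg hh hle hne)) hns hZ

omit hI hns in
/-- A simple group with at most three nontrivial class sizes is `PSL(2, 2^m)`. -/
theorem equiv_psl [IsSimpleGroup G] (hna : ¬ ∀ a b : G, a * b = b * a)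
    (h3 : {m : ℕ | ∃ x : G, x ≠ 1 ∧ cls x = m}.ncard ≤ 3) :
    ∃ (m : ℕ) (F : Type) (_ : Field F) (_ : Fintype F), 2 ≤ m ∧ Fintype.card F = 2 ^ m ∧
      Nonempty (G ≃* Matrix.ProjectiveSpecialLinearGroup (Fin 2) F) :=
  equiv_psl_of_not_solvable (center_eq_bot' hna)
    (fun h => hna (IsSimpleGroup.comm_iff_isSolvable.2 h)) h3

end CfsgLib.ConjType
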